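import Groth.Agent.EtBCQ.Chase
import Groth.Agent.EtBCQ.Crit
import Groth.Agent.EtAcycX.LAChange
import Groth.Agent.EtAcycX.LocFib
import Groth.Agent.EtAcycX.GeomFib
import Groth.Agent.EtAcycX.GenPt
import Groth.Agent.EtAcycX.Comp
import Groth.Agent.AffClosure.Basic
import Mathlib

/-! Local acyclicity gives base change for open immersions after quasi-finite base change. -/

set_option autoImplicit false
set_option backward.isDefEq.respectTransparency false
set_option backward.isDefEq.respectTransparency.types false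
set_option maxHeartbeats 1000000
set_option linter.style.haveILetI false
set_option linter.overlappingInstances false
set_option linter.unusedSectionVars false
set_option linter.auxLemma false

universe u

open CategoryTheory CategoryTheory.Limits CategoryTheory.Abelian AlgebraicGeometry Opposite IsLocalRing
open scoped TensorProduct

noncomputable section

namespace Groth.Agent.EtOpenBC

open Groth.Agent.EtAcycX Groth.Agent.EtBCQ

attribute [local instance 100000] EtCoh.H._proof_1 Groth.Agent.EtMV.hext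
attribute [local instance 200000] Groth.Agent.EtMV.hextAb

theorem algResidue_specMap {A B : Type u} [CommRing A] [CommRing B] (φ : A →+* B) (hφ : φ.IsIntegral) :
    AlgResidue (Spec.map (CommRingCat.ofHom φ)) := fun z => by
  haveI : IsIntegralHom (Spec.map (CommRingCat.ofHom φ)) := IsIntegralHom.SpecMap_iff.mpr hφ
  exact AffClosure.isIntegral_residueFieldMap _ ((Spec.map (CommRingCat.ofHom φ)).isIntegral_app ⊤ (isAffineOpen_top _)) z

/-- local acyclicity is stable under quasi-finite base change -/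
theorem isLocAcyclicN_pullback_lqf {X S S' : Scheme.{u}} (f : X ⟶ S) (g : S' ⟶ S) [LocallyOfFiniteType g]
    [LocallyQuasiFinite g] {L : Set ℕ} (hL : ∃ ℓ ∈ L, ℓ.Prime) {n : ℕ} (hf : EtAcyc.IsLocAcyclicN f L n) :
    EtAcyc.IsLocAcyclicN (pullback.snd f g) L n := by
  refine isLocAcyclicN_of_fibres _ ?_
  intro x' RS' RX' _ _ _ _ _ _ _ _ _ _ _ _ hc
  let QS' : EtBCQ.SH S' ((pullback.snd f g).base x') := { R := RS' }
  let QX' : EtBCQ.SH (pullback f g) x' := { R := RX' }
  let x := (pullback.fst f g).base x'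
  let QS := EtBCQ.mkSH S (f.base x)
  let QX := EtBCQ.mkSH X x
  let θ : QS'.R →+* QX'.R := algebraMap RS' RX'
  haveI : IsLocalHom θ := ‹IsLocalHom (algebraMap RS' RX')›
  haveI : HenselianLocalRing QS'.R := QS'.sh.henselian
  haveI : IsSepClosed (ResidueField QS'.R) := QS'.sh.isSepClosure.1
  haveI : HenselianLocalRing QX'.R := QX'.sh.henselian
  haveI : IsSepClosed (ResidueField QX'.R) := QX'.sh.isSepClosure.1
  have hθ : Spec.map (CommRingCat.ofHom θ) ≫ QS'.spec = QX'.spec ≫ pullback.snd f g :=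
    (EtBCQ.specOf_comp (pullback.snd f g) x' RS' RX' θ hc).symm
  have hxs : (QS'.spec ≫ g) (closedPoint QS'.R) = f.base x := by
    rw [Scheme.Hom.comp_apply, QS'.spec_closed]
    exact (congrArg (fun h : pullback f g ⟶ S => h x') pullback.condition).symm
  obtain ⟨φ, hφl, hφ⟩ := EtBCQ.exists_strict_hom QS (QS'.spec ≫ g) hxs
  obtain ⟨ι, hιl, hι⟩ := EtBCQ.exists_strict_hom QX (QX'.spec ≫ pullback.fst f g) (by
    rw [Scheme.Hom.comp_apply, QX'.spec_closed])
  haveI := hφl
  haveI := hιl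
  haveI : IsLocalHom (θ.comp φ) := RingHom.isLocalHom_comp _ _
  obtain ⟨ψ, ⟨hψ, hιψ⟩, -⟩ := EtBCQ.existsUnique_strict QS (B := QX.R) (C := QX'.R) (QX.spec ≫ f) (θ.comp φ) ι (by
    refine (Category.assoc _ _ _).symm.trans ((congrArg (· ≫ f) hι).trans ?_)
    refine (Category.assoc _ _ _).trans ((congrArg (QX'.spec ≫ ·) pullback.condition).trans ?_)
    refine (Category.assoc _ _ _).symm.trans ((congrArg (· ≫ g) hθ.symm).trans ?_)
    refine (Category.assoc _ _ _).trans ((congrArg (Spec.map (CommRingCat.ofHom θ) ≫ ·) hφ.symm).trans ?_)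
    refine (Category.assoc _ _ _).symm.trans ?_
    rw [← Spec.map_comp]
    rfl)
  haveI hψl : IsLocalHom ψ := ⟨fun a ha => isUnit_of_map_unit (θ.comp φ) a (by
    rw [← hιψ]; exact ha.map ι)⟩
  letI : Algebra QS.R QX.R := ψ.toAlgebra
  letI : Algebra QS.R QS'.R := φ.toAlgebra
  haveI : IsLocalHom (algebraMap QS.R QX.R) := hψl
  haveI : IsLocalHom (algebraMap QS.R QS'.R) := hφl
  have hint : φ.IsIntegral := by
    let P := pullback g QS.spec
    let b : P ⟶ Spec (CommRingCat.of QS.R) := pullback.snd g QS.spec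
    let k : Spec (CommRingCat.of QS'.R) ⟶ P :=
      pullback.lift QS'.spec (Spec.map (CommRingCat.ofHom φ)) hφ.symm
    obtain ⟨U, hU, hz, -⟩ := exists_isAffineOpen_mem_and_subset (X := P) (x := k (closedPoint QS'.R)) (U := ⊤) trivial
    have hr : Set.range k ⊆ Set.range hU.fromSpec := by
      rintro _ ⟨y, rfl⟩
      rw [hU.range_fromSpec]
      exact ((IsLocalRing.specializes_closedPoint y).map k.continuous).mem_open U.2 hz
    obtain ⟨a, ha⟩ := Spec.map_surjective (hU.fromSpec ≫ b)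
    obtain ⟨l, hl⟩ := Spec.map_surjective (IsOpenImmersion.lift hU.fromSpec k hr)
    letI : Algebra QS.R Γ(P, U) := a.hom.toAlgebra
    haveI : LocallyOfFiniteType b := MorphismProperty.pullback_snd _ _ inferInstance
    haveI : LocallyQuasiFinite b := MorphismProperty.pullback_snd _ _ inferInstance
    haveI : Algebra.FiniteType QS.R Γ(P, U) := by
      have h : LocallyOfFiniteType (Spec.map a) := by rw [ha]; infer_instance
      exact (HasRingHomProperty.Spec_iff (P := @LocallyOfFiniteType)).mp h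
    haveI : Algebra.QuasiFinite QS.R Γ(P, U) := by
      have h : LocallyQuasiFinite (Spec.map a) := by rw [ha]; infer_instance
      exact (HasRingHomProperty.Spec_iff (P := @LocallyQuasiFinite)).mp h
    refine isIntegral_of_model QS' φ Γ(P, U) (hU.fromSpec ≫ pullback.fst g QS.spec) l.hom ?_ ?_ ?_
    · refine congrArg CommRingCat.Hom.hom (show a ≫ l = CommRingCat.ofHom φ from Spec.map_injective ?_)
      rw [Spec.map_comp, hl, ha, ← Category.assoc, IsOpenImmersion.lift_fac, pullback.lift_snd]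
    · show Spec.map l ≫ _ = _
      rw [hl, ← Category.assoc, IsOpenImmersion.lift_fac, pullback.lift_fst]
    · intro hp hlo
      haveI := Hensel.finite_atPrime QS.R Γ(P, U) ((maximalIdeal QS'.R).comap l.hom)
      exact Algebra.IsIntegral.of_finite _ _
  haveI : Algebra.IsIntegral QS.R QS'.R := ⟨hint⟩
  letI : Algebra QS.R QX'.R := (θ.comp φ).toAlgebra
  let ιA : QX.R →ₐ[QS.R] QX'.R := { ι with commutes' := RingHom.congr_fun hιψ }
  let θA : QS'.R →ₐ[QS.R] QX'.R := { θ with commutes' := fun _ => rfl }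
  let Λ := (Algebra.TensorProduct.lift ιA θA fun _ _ => .all _ _)
  have hΛ₁ : ∀ b, Λ (b ⊗ₜ 1) = ι b := fun b => by
    rw [Algebra.TensorProduct.lift_tmul, map_one, mul_one]
    rfl
  have hΛ₂ : ∀ d, Λ (1 ⊗ₜ d) = θ d := fun d => by
    rw [Algebra.TensorProduct.lift_tmul, map_one, one_mul]
    rfl
  have hΛ : Function.Bijective Λ.toRingHom := bijective_tensor_strict f g QX QS' QX' QS.spec hψ hφ ι θ hι hθ
    Λ.toRingHom hΛ₁ hΛ₂
  haveI : IsIso (CommRingCat.ofHom Λ.toRingHom) := (ConcreteCategory.isIso_iff_bijective _).2 hΛ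
  have h1 : IsPushout (CommRingCat.ofHom ψ) (CommRingCat.ofHom φ)
      (CommRingCat.ofHom ι) (CommRingCat.ofHom θ) := by
    refine (CommRingCat.isPushout_tensorProduct QS.R QX.R QS'.R).of_iso (Iso.refl _) (Iso.refl _) (Iso.refl _)
      (asIso (CommRingCat.ofHom Λ.toRingHom)) (by rfl) (by rfl) ?_ ?_
    · ext b; exact hΛ₁ b
    · ext d; exact hΛ₂ d
  refine geomFibres_of_isPullback (a := Spec.map (CommRingCat.ofHom ι)) (g := Spec.map (CommRingCat.ofHom ψ))
    (p := Spec.map (CommRingCat.ofHom φ)) (isPullback_SpecMap_of_isPushout _ _ _ _ h1) (algResidue_specMap φ hint) ?_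
  exact apply_onStrict' (onStrict_fibres_of_isLocAcyclicN f hL hf) (x := x) rfl QS QX ψ hψ

section BCQ

variable {X S Y T : Scheme.{u}} {f : X ⟶ S} {g : T ⟶ S} [QuasiCompact g] [QuasiSeparated g] {h : Y ⟶ X}
  [QuasiCompact h] [QuasiSeparated h] {e : Y ⟶ T} (w : e ≫ g = h ≫ f) [PreservesFiniteLimits (EtCoh.pull e)]

/-- the restriction is pullback -/
theorem Loc_r_apply (l : Loc f g h e) (F : EtCoh.Ab T) (q : ℕ)
    (y : EtCoh.H l.PS ((EtCoh.pull l.aS).obj F) q) :
    l.r F q y = (EtCore.HpullVia l.m l.aS (l.pY ≫ e) l.wm F q y).comp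
      (Ext.mk₀ ((EtMV.ψ l.pY e (l.pY ≫ e) rfl).inv.app F)) (add_zero q) := by
  rw [EtMV.HpullVia_apply, Ext.comp_assoc_of_second_deg_zero, Ext.mk₀_comp_mk₀]
  rfl

theorem isIso_bcQ_of_loc (c : IsPullback e h g f) (F : EtCoh.Ab T) (q : ℕ)
    (hr : ∀ l : Loc f g h e, Function.Bijective (EtCore.HpullVia l.m l.aS (l.pY ≫ e) l.wm F q)) :
    IsIso (EtBC.bcQ g f h e w q F) := by
  let a := EtBC.bcQ g f h e w q F
  have hP : Groth.Agent.EtStalk.Covers (X := X) fun Ω _ _ ξ => Function.Bijective ((EtCoh.stalk ξ).map a) :=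
    covers_loc c _ fun l => (l.bijective_iff w F q).2 (by
      have hb := bijective_comp_mk₀ (EtCoh.const l.PX ℤ) ((EtMV.ψ l.pY e (l.pY ≫ e) rfl).symm.app F) q
      exact (funext (Loc_r_apply l F q) : ⇑(l.r F q) = _) ▸ hb.comp (hr l))
  have : Presheaf.IsLocallyInjective X.smallEtaleTopology a.hom :=
    Groth.Agent.EtStalk.isLocallyInjective_of_covers _ hP fun Ω _ _ ξ hξ => hξ.1
  have : Sheaf.IsLocallySurjective a :=
    Groth.Agent.EtStalk.isLocallySurjective_of_covers _ hP fun Ω _ _ ξ hξ => hξ.2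
  have : Mono a := Sheaf.mono_of_isLocallyInjective a
  have : Epi a := inferInstance
  exact isIso_of_mono_of_epi a

theorem mono_bcQ_of_loc (c : IsPullback e h g f) (F : EtCoh.Ab T) (q : ℕ)
    (hr : ∀ l : Loc f g h e, Function.Injective (EtCore.HpullVia l.m l.aS (l.pY ≫ e) l.wm F q)) :
    Mono (EtBC.bcQ g f h e w q F) :=
  EtBCQ.mono_bcQ w c F q fun l => by
    have hb := bijective_comp_mk₀ (EtCoh.const l.PX ℤ) ((EtMV.ψ l.pY e (l.pY ≫ e) rfl).symm.app F) q
    exact (funext (Loc_r_apply l F q) : ⇑(l.r F q) = _) ▸ hb.1.comp (hr l)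

end BCQ

/-- isomorphisms satisfy the comparison condition -/
theorem compN_of_isIso {A B : Scheme.{u}} (f : A ⟶ B) [IsIso f] (L : Set ℕ) (n : ℕ) : EtAcyc.CompN f L n :=
  fun F _ _ => ⟨fun q _ => Groth.Agent.S0642.result f F q, (Groth.Agent.S0642.result f F (n + 1)).1⟩

theorem injective_HpullVia_of_compN {W P Z : Scheme.{u}} (m : W ⟶ P) (a : P ⟶ Z) (a' : W ⟶ Z) (w : m ≫ a = a')
    [PreservesFiniteLimits (EtCoh.pull m)] {L : Set ℕ} {n : ℕ} (hm : EtAcyc.CompN m L n) {F : EtCoh.Ab Z}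
    (hF : EtAcyc.IsLTorsion L F) : Function.Injective (EtCore.HpullVia m a a' w F (n + 1)) := by
  haveI := EtAcycX.isIso_ψh m a a' w F
  exact (bijective_comp_iso (EtLimit.ψh m a a' w F) (n + 1)).1.comp (hm _ (isLTorsion_pull a hF)).2

theorem compN_square {A B : Type u} [CommRing A] [CommRing B] (ρ : A →+* B) {L : Set ℕ} {n : ℕ}
    (hac : EtAcyc.IsAcyclicN (Spec.map (CommRingCat.ofHom ρ)) L n) {PS PX : Scheme.{u}}
    (bS : PS ⟶ Spec (CommRingCat.of A)) [IsOpenImmersion bS] (bX : PX ⟶ Spec (CommRingCat.of B)) (m : PX ⟶ PS)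
    (sq : IsPullback m bX bS (Spec.map (CommRingCat.ofHom ρ))) : EtAcyc.CompN m L n := by
  let V : (Spec (CommRingCat.of A)).Etale := Scheme.Etale.mk bS
  rw [← sq.isoPullback_hom_fst]
  exact (compN_comp_iff _ _ (compN_of_isIso sq.isoPullback.hom L n)).2 (hac V)

theorem compN_loc {X' Y' Y'' X'' : Scheme.{u}} {g' : X' ⟶ Y'} {i' : Y'' ⟶ Y'} [IsOpenImmersion i']
    {j' : X'' ⟶ X'} {g'' : X'' ⟶ Y''} (c : IsPullback g'' j' i' g') {L : Set ℕ} {n : ℕ}
    (hg : EtAcyc.IsLocAcyclicN g' L n) (l : Loc g' i' j' g'') : EtAcyc.CompN l.m L n := by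
  haveI : IsOpenImmersion l.bS := MorphismProperty.of_isPullback (P := @IsOpenImmersion) l.HS ‹_›
  have hac : EtAcyc.IsAcyclicN (Spec.map (CommRingCat.ofHom l.ρ)) L n :=
    apply_onStrict' hg (x := l.x) (y := g'.base l.x) rfl
      ({ R := l.RS } : EtBCQ.SH Y' (g'.base l.x)) ({ R := l.RX } : EtBCQ.SH X' l.x) l.ρ l.hρ.symm
  refine compN_square l.ρ hac l.bS l.bX l.m ?_
  have hbig : IsPullback (l.m ≫ l.aS) l.bX i'
      (Spec.map (CommRingCat.ofHom l.ρ) ≫ Hens2.specOf Y' (g'.base l.x) l.RS) := by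
    rw [l.wm, ← l.hρ]
    exact l.HX.flip.paste_vert c.flip |>.flip
  exact IsPullback.of_right hbig l.wb l.HS

/-- base change for quasi-compact open immersions -/
theorem bc_open_of_locAcyclic {X' Y' Y'' X'' : Scheme.{u}} (g' : X' ⟶ Y') (i' : Y'' ⟶ Y') [IsOpenImmersion i']
    [QuasiCompact i'] (j' : X'' ⟶ X') (g'' : X'' ⟶ Y'') (c : IsPullback g'' j' i' g')
    [PreservesFiniteLimits (EtCoh.pull g'')] {L : Set ℕ} {n : ℕ} (hg : EtAcyc.IsLocAcyclicN g' L n)
    (F : EtCoh.Ab Y'') (hF : EtAcyc.IsLTorsion L F) :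
    (∀ q : ℕ, q ≤ n → IsIso (EtBC.bcQ i' g' j' g'' c.w q F)) ∧ Mono (EtBC.bcQ i' g' j' g'' c.w (n + 1) F) := by
  haveI : IsOpenImmersion j' := MorphismProperty.of_isPullback (P := @IsOpenImmersion) c ‹_›
  haveI : QuasiCompact j' := MorphismProperty.of_isPullback (P := @QuasiCompact) c ‹_›
  haveI : QuasiSeparated j' := inferInstance
  exact ⟨fun q hq => isIso_bcQ_of_loc c.w c F q fun l =>
      bijective_HpullVia_of_compN l.m l.aS _ l.wm (compN_loc c hg l) hF hq,
    mono_bcQ_of_loc c.w c F (n + 1) fun l =>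
      injective_HpullVia_of_compN l.m l.aS _ l.wm (compN_loc c hg l) hF⟩

/-- the forward implication, on base change maps -/
theorem bcQ_open_of_locAcyclic {X Y Y' Y'' : Scheme.{u}} (g : X ⟶ Y) (i : Y' ⟶ Y) [LocallyQuasiFinite i]
    [LocallyOfFiniteType i] (i' : Y'' ⟶ Y') [IsOpenImmersion i'] [QuasiCompact i']
    [PreservesFiniteLimits (EtCoh.pull (pullback.snd (pullback.snd g i) i'))] {L : Set ℕ} {n : ℕ}
    (hg : EtAcyc.IsLocAcyclicN g L n) (F : EtCoh.Ab Y'') (hF : EtAcyc.IsLTorsion L F) :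
    (∀ q : ℕ, q ≤ n → IsIso (EtBC.bcQ i' (pullback.snd g i) (pullback.fst (pullback.snd g i) i')
        (pullback.snd (pullback.snd g i) i') pullback.condition.symm q F)) ∧
      Mono (EtBC.bcQ i' (pullback.snd g i) (pullback.fst (pullback.snd g i) i')
        (pullback.snd (pullback.snd g i) i') pullback.condition.symm (n + 1) F) := by
  by_cases hL : ∃ ℓ ∈ L, ℓ.Prime
  · exact bc_open_of_locAcyclic (pullback.snd g i) i' _ _ (IsPullback.of_hasPullback _ _).flip
      (isLocAcyclicN_pullback_lqf g i hL hg) F hF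
  · refine bc_open_of_locAcyclic (pullback.snd g i) i' _ _ (IsPullback.of_hasPullback _ _).flip ?_ F hF
    intro x RY RX _ _ _ _ _ _ _ _ _ _ _ _ _ V G hG _
    have hz := isZero_of_noPrimes hL hG
    haveI hs : ∀ q, Subsingleton (EtCoh.H V.left G q) := fun q =>
      AddCommGrpCat.subsingleton_of_isZero ((EtCoh.HF _ q).map_isZero hz)
    haveI : ∀ q, Subsingleton (EtCoh.H _ ((EtCoh.pull (EtAcyc.prj (Spec.map (CommRingCat.ofHom (algebraMap RY RX))) V)).obj G) q) :=
      fun q => AddCommGrpCat.subsingleton_of_isZero ((EtCoh.HF _ q).map_isZero ((EtCoh.pull _).map_isZero hz))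
    exact ⟨fun q _ => ⟨fun a b _ => Subsingleton.elim a b, fun b => ⟨0, Subsingleton.elim _ b⟩⟩,
      fun a b _ => Subsingleton.elim a b⟩

end Groth.Agent.EtOpenBC
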