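import Groth.Agent.EtBCQ.PullSys
import Groth.Agent.EtLimit.Coherence
import Groth.Agent.EtLimit.ColimDatum
import Groth.Prelude.Def_EtLim
import Mathlib.CategoryTheory.Limits.Connected

/-! The system of inverse images of one sheaf. -/

set_option autoImplicit false
set_option backward.isDefEq.respectTransparency false
set_option backward.isDefEq.respectTransparency.types false
set_option maxHeartbeats 1000000
set_option linter.style.haveILetI false
set_option linter.unusedSectionVars false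

universe u

open CategoryTheory CategoryTheory.Limits AlgebraicGeometry Opposite

noncomputable section

namespace Groth.Agent.EtOpenBC

open EtLimit (ψh ψh_natural ψh_assoc)
open EtBCQ (eq_pullTrans_comp)

variable {ι : Type u} [Preorder ι] (Ts : ιᵒᵖ ⥤ Scheme.{u}) (cT : Cone Ts) {P : Scheme.{u}}
  (p : ∀ a, Ts.obj a ⟶ P) (hp : ∀ {a b : ιᵒᵖ} (m : a ⟶ b), Ts.map m ≫ p b = p a)
  (p₀ : cT.pt ⟶ P) (hp₀ : ∀ a, cT.π.app a ≫ p a = p₀) (A : EtCoh.Ab P)

/-- the sheaves -/
abbrev cF (i : ι) : EtCoh.Ab (Ts.obj (op i)) := (EtCoh.pull (p (op i))).obj A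

/-- the transition maps -/
def cφ ⦃i j : ι⦄ (h : i ≤ j) : (EtCoh.pull (Ts.map (homOfLE h).op)).obj (cF Ts p A i) ⟶ cF Ts p A j :=
  ψh (Ts.map (homOfLE h).op) (p (op i)) (p (op j)) (hp _) A

theorem cφ_cocycle ⦃i j k : ι⦄ (hij : i ≤ j) (hjk : j ≤ k) :
    cφ Ts p hp A (hij.trans hjk) = (EtLim.pullTrans Ts hij hjk).hom.app (cF Ts p A i) ≫
      (EtCoh.pull (Ts.map (homOfLE hjk).op)).map (cφ Ts p hp A hij) ≫ cφ Ts p hp A hjk :=
  eq_pullTrans_comp (Ts.map (homOfLE hjk).op) (Ts.map (homOfLE hij).op) (Ts.map (homOfLE (hij.trans hjk)).op)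
    (by rw [← Functor.map_comp]; rfl) _ _
    (ψh_assoc (Ts.map (homOfLE hjk).op) (Ts.map (homOfLE hij).op) (p (op i)) (Ts.map (homOfLE (hij.trans hjk)).op)
      (p (op j)) (p (op k)) (by rw [← Functor.map_comp]; rfl) (hp _) (hp _) (hp _) A)

/-- the diagram at the limit -/
abbrev cG : ι ⥤ EtCoh.Ab cT.pt := (Functor.const ι).obj ((EtCoh.pull p₀).obj A)

/-- its identification with the inverse images -/
def cψ (i : ι) : (EtCoh.pull (cT.π.app (op i))).obj (cF Ts p A i) ≅ (cG Ts cT p₀ A).obj i :=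
  haveI : IsIso (ψh (cT.π.app (op i)) (p (op i)) p₀ (hp₀ _) A) := EtBCQ.isIso_ψh _ _ _ _ A
  asIso (ψh (cT.π.app (op i)) (p (op i)) p₀ (hp₀ _) A)

theorem cψ_compat ⦃i j : ι⦄ (hij : i ≤ j) :
    (cψ Ts cT p p₀ hp₀ A i).hom ≫ (cG Ts cT p₀ A).map (homOfLE hij) =
      (EtLim.pullTransCone Ts cT hij).hom.app (cF Ts p A i) ≫
        (EtCoh.pull (cT.π.app (op j))).map (cφ Ts p hp A hij) ≫ (cψ Ts cT p p₀ hp₀ A j).hom := by
  refine (Category.comp_id _).trans ?_
  exact eq_pullTrans_comp (cT.π.app (op j)) (Ts.map (homOfLE hij).op) (cT.π.app (op i)) (cT.w (homOfLE hij).op) _ _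
    (ψh_assoc (cT.π.app (op j)) (Ts.map (homOfLE hij).op) (p (op i)) (cT.π.app (op i)) (p (op j)) p₀
      (cT.w (homOfLE hij).op) (hp _) (hp₀ _) (hp₀ _) A)

variable [Nonempty ι] [IsDirectedOrder ι]

/-- the colimit is the inverse image on the limit -/
def cColimIso : colimit (cG Ts cT p₀ A) ≅ (EtCoh.pull p₀).obj A :=
  haveI : IsFiltered ι := inferInstance
  haveI : IsConnected ι := IsFiltered.isConnected ι
  (colimit.isColimit _).coconePointUniqueUpToIso (isColimitConstCocone ι _)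

end Groth.Agent.EtOpenBC
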