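import Groth.Agent.EtBCQ.Crit
import Mathlib

/-! Rings which are directed unions, and the limit of their spectra. -/

set_option autoImplicit false
set_option backward.isDefEq.respectTransparency false
set_option backward.isDefEq.respectTransparency.types false
set_option linter.style.haveILetI false
set_option linter.unusedSectionVars false

universe u

open CategoryTheory CategoryTheory.Limits AlgebraicGeometry Opposite

noncomputable section

namespace Groth.Agent.EtOpenBC

variable {ι : Type u} [Preorder ι] {L : Type u} [CommRing L] (S : ι → Subring L) (hS : Monotone S)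

/-- a monotone family of subrings as a diagram -/
def subDiag : ι ⥤ CommRingCat.{u} where
  obj a := CommRingCat.of (S a)
  map f := CommRingCat.ofHom (Subring.inclusion (hS (leOfHom f)))

/-- the inverse system of spectra -/
def subSpec : ιᵒᵖ ⥤ Scheme.{u} := (subDiag S hS).op ⋙ Scheme.Spec

variable {C : Type u} [CommRing C] (j : C →+* L) (hle : ∀ a, S a ≤ j.range)
  (hj : Function.Injective j)

/-- the inclusion of a stage -/
def subIncl (a : ι) : S a →+* C :=
  RingHom.comp (RingEquiv.ofBijective j.rangeRestrict
    ⟨fun _ _ h => hj (Subtype.ext_iff.1 h), j.rangeRestrict_surjective⟩).symm.toRingHom (Subring.inclusion (hle a))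

theorem j_subIncl (a : ι) (x : S a) : j (subIncl S j hle hj a x) = x := by
  let e := RingEquiv.ofBijective j.rangeRestrict
    ⟨fun _ _ h => hj (Subtype.ext_iff.1 h), j.rangeRestrict_surjective⟩
  have h := e.apply_symm_apply (Subring.inclusion (hle a) x)
  exact Subtype.ext_iff.1 h

/-- the cocone at the union -/
def subCocone : Cocone (subDiag S hS) where
  pt := CommRingCat.of C
  ι :=
    { app := fun a => CommRingCat.ofHom (subIncl S j hle hj a)
      naturality := fun a b f => CommRingCat.hom_ext (RingHom.ext fun x => hj
        ((j_subIncl S j hle hj b _).trans (j_subIncl S j hle hj a x).symm)) }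

/-- the cone of spectra at the union -/
def subCone : Cone (subSpec S hS) := Scheme.Spec.mapCone (subCocone S hS j hle hj).op

theorem subCone_π (a : ιᵒᵖ) :
    (subCone S hS j hle hj).π.app a = Spec.map (CommRingCat.ofHom (subIncl S j hle hj a.unop)) := rfl

variable [Nonempty ι] [IsDirectedOrder ι] (hcov : ∀ c : C, ∃ a, j c ∈ S a)

include hcov in
theorem nonempty_isLimit_subCone : Nonempty (IsLimit (subCone S hS j hle hj)) := by
  haveI : IsFiltered ι := inferInstance
  haveI : ReflectsColimitsOfShape ι (forget CommRingCat.{u}) := reflectsColimitsOfShape_of_reflectsIsomorphisms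
  have hc : IsColimit (subCocone S hS j hle hj) := by
    refine isColimitOfReflects (forget CommRingCat.{u}) (Types.FilteredColimit.isColimitOf _ _ ?_ ?_)
    · intro c
      obtain ⟨a, ha⟩ := hcov c
      exact ⟨a, (⟨j c, ha⟩ : S a), hj (j_subIncl S j hle hj a ⟨j c, ha⟩).symm⟩
    · intro a b (x : S a) (y : S b) (hxy : subIncl S j hle hj a x = subIncl S j hle hj b y)
      obtain ⟨k, hak, hbk⟩ := directed_of (· ≤ ·) a b
      refine ⟨k, homOfLE hak, homOfLE hbk, Subtype.ext ?_⟩
      show (x : L) = y
      rw [← j_subIncl S j hle hj a x, ← j_subIncl S j hle hj b y, hxy]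
  exact ⟨isLimitOfPreserves Scheme.Spec hc.op⟩

theorem isAffineHom_subSpec_map {a b : ιᵒᵖ} (f : a ⟶ b) : IsAffineHom ((subSpec S hS).map f) :=
  inferInstanceAs (IsAffineHom (Spec.map _))

end Groth.Agent.EtOpenBC
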