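import Groth.Agent.EtBCQ.StrictSys
import Groth.Agent.EtBCQ.Crit
import Groth.Agent.Hensel.Branches
import Mathlib

/-! Integral algebras over strictly henselian rings. -/

set_option autoImplicit false
set_option backward.isDefEq.respectTransparency false
set_option backward.isDefEq.respectTransparency.types false
set_option linter.style.haveILetI false
set_option linter.unusedSectionVars false

universe u

open CategoryTheory AlgebraicGeometry IsLocalRing
open scoped TensorProduct

noncomputable section

namespace Groth.Agent.EtOpenBC

section

variable (A : Type u) [CommRing A] [HenselianLocalRing A] [IsSepClosed (ResidueField A)] (C : Type u) [CommRing C]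
  [Algebra A C] [Algebra.IsIntegral A C] [IsLocalRing C]

theorem isLocalHom_of_integral : IsLocalHom (algebraMap A C) := by
  refine ((local_hom_TFAE (algebraMap A C)).out 0 4).2 ?_
  exact eq_maximalIdeal (Ideal.isMaximal_comap_of_isIntegral_of_isMaximal (R := A) (maximalIdeal C))

include A in
theorem henselian_integral : HenselianLocalRing C := Hensel.henselianLocalRing_finite A C

include A in
theorem isSepClosed_residue_integral : IsSepClosed (ResidueField C) := by
  haveI := isLocalHom_of_integral A C
  haveI : Algebra.IsIntegral A (ResidueField C) :=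
    Algebra.IsIntegral.of_surjective (IsScalarTower.toAlgHom A C _) residue_surjective
  haveI : Algebra.IsIntegral (ResidueField A) (ResidueField C) := Algebra.IsIntegral.tower_top A
  haveI : Algebra.IsAlgebraic (ResidueField A) (ResidueField C) := inferInstance
  exact Algebra.IsAlgebraic.isSepClosed (F := ResidueField A)

theorem nontrivial_tensor (B : Type u) [CommRing B] [IsLocalRing B] [Algebra A B] [IsLocalHom (algebraMap A B)] :
    Nontrivial (B ⊗[A] C) := by
  haveI := isLocalHom_of_integral A C
  let K := AlgebraicClosure (ResidueField B)
  haveI : Algebra.IsIntegral A (ResidueField C) :=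
    Algebra.IsIntegral.of_surjective (IsScalarTower.toAlgHom A C _) residue_surjective
  haveI : Algebra.IsIntegral (ResidueField A) (ResidueField C) := Algebra.IsIntegral.tower_top A
  haveI : Algebra.IsAlgebraic (ResidueField A) (ResidueField C) := inferInstance
  let j : ResidueField A →+* K := (algebraMap (ResidueField B) K).comp (ResidueField.map (algebraMap A B))
  letI : Algebra (ResidueField A) K := j.toAlgebra
  letI : Algebra A K := (j.comp (residue A)).toAlgebra
  let e : ResidueField C →ₐ[ResidueField A] K := IsAlgClosed.lift
  let σC : C →ₐ[A] K :=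
    { (e.toRingHom.comp (residue C)) with
      commutes' := fun a => by
        show e (residue C (algebraMap A C a)) = j (residue A a)
        exact e.commutes (residue A a) }
  let σB : B →ₐ[A] K :=
    { ((algebraMap (ResidueField B) K).comp (residue B)) with
      commutes' := fun a => rfl }
  exact (Algebra.TensorProduct.productMap σB σC).toRingHom.domain_nontrivial

end

section Self

variable (C : Type u) [CommRing C] [HenselianLocalRing C] [IsSepClosed (ResidueField C)]
  (z : Spec (CommRingCat.of C)) (hz : z = closedPoint C)

/-- the structure map of the stalk at the closed point -/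
def selfHom : (Spec (CommRingCat.of C)).presheaf.stalk z →+* C :=
  ((Spec (CommRingCat.of C)).presheaf.stalkCongr (.of_eq hz) ≪≫ stalkClosedPointIso (CommRingCat.of C)).hom.hom

theorem selfHom_bijective : Function.Bijective (selfHom C z hz) :=
  ConcreteCategory.bijective_of_isIso
    ((Spec (CommRingCat.of C)).presheaf.stalkCongr (.of_eq hz) ≪≫ stalkClosedPointIso (CommRingCat.of C)).hom

theorem isLocalHom_of_bijective {O : Type u} [CommRing O] (f : O →+* C) (hf : Function.Bijective f) : IsLocalHom f :=
  ⟨fun a ha => by
    obtain ⟨c, hc⟩ := ha.exists_right_inv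
    obtain ⟨b, rfl⟩ := hf.2 c
    refine IsUnit.of_mul_eq_one b (hf.1 ?_)
    rw [map_mul, map_one]
    exact hc⟩

theorem isStrictHenselization_of_bijective {O : Type u} [CommRing O] [IsLocalRing O] [Algebra O C]
    [IsLocalHom (algebraMap O C)] (hb : Function.Bijective (algebraMap O C)) :
    _root_.Hensel.IsStrictHenselization O C := by
  let e := RingEquiv.ofBijective _ hb
  have hres : Function.Surjective (ResidueField.map (algebraMap O C)) := fun y => by
    obtain ⟨c, rfl⟩ := residue_surjective y
    obtain ⟨o, rfl⟩ := hb.2 c
    exact ⟨residue O o, ResidueField.map_residue _ o⟩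
  haveI : Module.Finite (ResidueField O) (ResidueField C) :=
    Module.Finite.of_surjective (Algebra.linearMap (ResidueField O) (ResidueField C)) hres
  refine ⟨inferInstance, ⟨inferInstance, ⟨fun y => ?_⟩⟩, fun T _ _ f _ τ hτ => ?_⟩
  · obtain ⟨x, rfl⟩ := hres y
    exact isSeparable_algebraMap (F := ResidueField O) (K := ResidueField C) x
  · refine ⟨f.comp e.symm.toRingHom, ⟨RingHom.ext fun o => congrArg f (e.symm_apply_apply o), fun c => ?_⟩, ?_⟩
    · obtain ⟨o, rfl⟩ := hb.2 c
      rw [show (f.comp e.symm.toRingHom) (algebraMap O C o) = f o from congrArg f (e.symm_apply_apply o),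
        ← ResidueField.map_residue f, ← hτ]
      rfl
    · rintro g ⟨hg, -⟩
      refine RingHom.ext fun c => ?_
      obtain ⟨o, rfl⟩ := hb.2 c
      exact (RingHom.congr_fun hg o).trans (congrArg f (e.symm_apply_apply o).symm)

/-- a strictly henselian ring is its own strict localisation -/
@[reducible] def selfSH : EtBCQ.SH (Spec (CommRingCat.of C)) z where
  R := C
  alg := (selfHom C z hz).toAlgebra
  lh := isLocalHom_of_bijective C _ (selfHom_bijective C z hz)
  sh := by
    letI := (selfHom C z hz).toAlgebra
    haveI : IsLocalHom (algebraMap ((Spec (CommRingCat.of C)).presheaf.stalk z) C) :=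
      isLocalHom_of_bijective C _ (selfHom_bijective C z hz)
    exact @isStrictHenselization_of_bijective C _ _ _ _ _ _ _ _ (selfHom_bijective C z hz)

theorem selfSH_spec : (selfSH C z hz).spec = 𝟙 (Spec (CommRingCat.of C)) := by
  subst hz
  show Spec.map (CommRingCat.ofHom (selfHom C (closedPoint C) rfl)) ≫
    (Spec (CommRingCat.of C)).fromSpecStalk (closedPoint C) = _
  rw [← Spec_stalkClosedPointIso, ← Spec.map_comp, ← Spec.map_id]
  refine congrArg Spec.map ?_
  show (stalkClosedPointIso (CommRingCat.of C)).inv ≫ CommRingCat.ofHom (selfHom C (closedPoint C) rfl) = _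
  rw [show CommRingCat.ofHom (selfHom C (closedPoint C) rfl) = (stalkClosedPointIso (CommRingCat.of C)).hom by
    simp [selfHom]]
  exact (stalkClosedPointIso (CommRingCat.of C)).inv_hom_id

end Self

end Groth.Agent.EtOpenBC
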