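import Groth.Agent.EtOpenBC.Limit
import Groth.Agent.EtOpenBC.LocalAlg
import Groth.Agent.EtOpenBC.Fwd
import Groth.Agent.EtBCQ.PbBij
import Groth.Agent.EtStrictLoc.Nbhd
import Groth.Agent.EtAcycX.EtRestLA
import Groth.Agent.EtAcycX.ConstHens
import Mathlib

/-! Base change for open immersions after quasi-finite base change gives local acyclicity. -/

set_option autoImplicit false
set_option backward.isDefEq.respectTransparency false
set_option backward.isDefEq.respectTransparency.types false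
set_option maxHeartbeats 1000000
set_option linter.style.haveILetI false
set_option linter.overlappingInstances false
set_option linter.unusedSectionVars false
set_option linter.auxLemma false

universe u

open CategoryTheory CategoryTheory.Limits CategoryTheory.Abelian AlgebraicGeometry Opposite IsLocalRing
open scoped TensorProduct

noncomputable section

namespace Groth.Agent.EtOpenBC

open Groth.Agent.EtAcycX

attribute [local instance 100000] EtCoh.H._proof_1 Groth.Agent.EtMV.hext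
attribute [local instance 200000] Groth.Agent.EtMV.hextAb
attribute [local instance 300000] CategoryTheory.Preadditive.preadditiveHasZeroMorphisms
  CategoryTheory.Abelian.toPreadditive

theorem isLocalHom_of_closed {A B : Type u} [CommRing A] [IsLocalRing A] [CommRing B] [IsLocalRing B] (f : A →+* B)
    (h : Spec.map (CommRingCat.ofHom f) (closedPoint B) = closedPoint A) : IsLocalHom f :=
  ((local_hom_TFAE f).out 0 4).2 (congrArg PrimeSpectrum.asIdeal h :)

/-- points of a strict localisation have residue fields of fractions -/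
theorem exists_residue_frac {A : Type u} [CommRing A] (y : Spec (CommRingCat.of A)) :
    ∃ φ : A →+* (Spec (CommRingCat.of A)).residueField y,
      Spec.map (CommRingCat.ofHom φ) = (Spec (CommRingCat.of A)).fromSpecResidueField y ∧
        ∀ z, ∃ a b : A, φ b ≠ 0 ∧ z * φ b = φ a := by
  let X := Spec (CommRingCat.of A)
  let t : CommRingCat.of A ⟶ X.presheaf.stalk y := StructureSheaf.toStalk A y
  refine ⟨(t ≫ X.residue y).hom, ?_, fun z => ?_⟩
  · show Spec.map (t ≫ X.residue y) = _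
    rw [Spec.map_comp]
    exact congrArg (Spec.map (X.residue y) ≫ ·) (Spec.fromSpecStalk_eq' (R := CommRingCat.of A) (x := y)).symm
  · obtain ⟨w, rfl⟩ := X.residue_surjective y z
    letI : Algebra A (X.presheaf.stalk y) := t.hom.toAlgebra
    haveI : IsLocalization.AtPrime (X.presheaf.stalk y) y.asIdeal :=
      inferInstanceAs (IsLocalization.AtPrime ((Spec.structureSheaf A).presheaf.stalk y) y.asIdeal)
    obtain ⟨⟨a, b⟩, h⟩ := IsLocalization.surj y.asIdeal.primeCompl w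
    refine ⟨a, b, ?_, ?_⟩
    · exact ((IsLocalization.map_units (X.presheaf.stalk y) b).map (X.residue y).hom).ne_zero
    · show X.residue y w * X.residue y (t b) = X.residue y (t a)
      rw [← map_mul]
      exact congrArg (X.residue y) h

/-- an affine chart at a point presents the strict localisation as a union of quasi-finite algebras -/
theorem exists_chart_union {Y : Scheme.{u}} {s : Y} (Q : EtBCQ.SH Y s) :
    ∃ (R : Type u) (_ : CommRing R) (_ : Algebra R Q.R) (cR : Spec (CommRingCat.of R) ⟶ Y),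
      LocallyQuasiFinite cR ∧ LocallyOfFiniteType cR ∧
        Spec.map (CommRingCat.ofHom (algebraMap R Q.R)) ≫ cR = Q.spec ∧ IsQFUnion R Q.R := by
  obtain ⟨V, hV, hs⟩ := EtStrictLoc.exists_chart (S := Y) (s := s)
  letI := TopCat.Presheaf.algebra_section_stalk Y.presheaf (⟨s, hs⟩ : V)
  haveI := hV.isLocalization_stalk ⟨s, hs⟩
  letI : Algebra Γ(Y, V) Q.R := (EtStrictLoc.chartMap (R := Q.R) V hs).toAlgebra
  haveI : IsScalarTower Γ(Y, V) (Y.presheaf.stalk s) Q.R := IsScalarTower.of_algebraMap_eq fun _ => rfl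
  refine ⟨Γ(Y, V), inferInstance, inferInstance, hV.fromSpec, inferInstance, inferInstance,
    EtStrictLoc.chart_w V hV hs, fun z => ?_⟩
  obtain ⟨C, _, _, _, φ, hz⟩ := EtStrictLoc.exists_stage (hV.primeIdealOf ⟨s, hs⟩).asIdeal (Y.presheaf.stalk s) Q.R z
  exact ⟨C, inferInstance, inferInstance, inferInstance, inferInstance, φ, hz⟩

theorem pushout_of_strict {X S S' : Scheme.{u}} (f : X ⟶ S) (g : S' ⟶ S) {x' : (pullback f g : Scheme.{u})}
    {x : X} (hx : (pullback.fst f g).base x' = x) (QX : EtBCQ.SH X x)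
    (QS' : EtBCQ.SH S' ((pullback.snd f g).base x')) (QX' : EtBCQ.SH (pullback f g) x')
    {R : Type u} [CommRing R] [HenselianLocalRing R] [IsSepClosed (ResidueField R)]
    [Algebra R QX.R] [IsLocalHom (algebraMap R QX.R)] [Algebra R QS'.R] [IsLocalHom (algebraMap R QS'.R)]
    [Algebra.IsIntegral R QS'.R] (s : Spec (CommRingCat.of R) ⟶ S)
    (hX : Spec.map (CommRingCat.ofHom (algebraMap R QX.R)) ≫ s = QX.spec ≫ f)
    (hS : Spec.map (CommRingCat.ofHom (algebraMap R QS'.R)) ≫ s = QS'.spec ≫ g)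
    (ι : QX.R →+* QX'.R) [IsLocalHom ι] (θ : QS'.R →+* QX'.R) [IsLocalHom θ]
    (hι : Spec.map (CommRingCat.ofHom ι) ≫ QX.spec = QX'.spec ≫ pullback.fst f g)
    (hθ : Spec.map (CommRingCat.ofHom θ) ≫ QS'.spec = QX'.spec ≫ pullback.snd f g)
    (hc : ι.comp (algebraMap R QX.R) = θ.comp (algebraMap R QS'.R)) :
    IsPushout (CommRingCat.ofHom (algebraMap R QX.R)) (CommRingCat.ofHom (algebraMap R QS'.R))
      (CommRingCat.ofHom ι) (CommRingCat.ofHom θ) := by
  subst hx
  letI : Algebra R QX'.R := (θ.comp (algebraMap R QS'.R)).toAlgebra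
  let ιA : QX.R →ₐ[R] QX'.R := { ι with commutes' := RingHom.congr_fun hc }
  let θA : QS'.R →ₐ[R] QX'.R := { θ with commutes' := fun _ => rfl }
  let Λ := Algebra.TensorProduct.lift ιA θA fun _ _ => .all _ _
  have hΛ₁ : ∀ b, Λ (b ⊗ₜ 1) = ι b := fun b => by
    rw [Algebra.TensorProduct.lift_tmul, map_one, mul_one]
    rfl
  have hΛ₂ : ∀ d, Λ (1 ⊗ₜ d) = θ d := fun d => by
    rw [Algebra.TensorProduct.lift_tmul, map_one, one_mul]
    rfl
  have hΛ : Function.Bijective Λ.toRingHom :=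
    bijective_tensor_strict f g QX QS' QX' s hX hS ι θ hι hθ Λ.toRingHom hΛ₁ hΛ₂
  haveI : IsIso (CommRingCat.ofHom Λ.toRingHom) := (ConcreteCategory.isIso_iff_bijective _).2 hΛ
  refine (CommRingCat.isPushout_tensorProduct R QX.R QS'.R).of_iso (Iso.refl _) (Iso.refl _) (Iso.refl _)
    (asIso (CommRingCat.ofHom Λ.toRingHom)) (by rfl) (by rfl) ?_ ?_
  · ext b; exact hΛ₁ b
  · ext d; exact hΛ₂ d

theorem square_of_comp {X Y : Scheme.{u}} {A B C T : Type u} [CommRing A] [CommRing B] [CommRing C] [CommRing T]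
    (a : A →+* B) (c : A →+* C) (l : B →+* T) (r : C →+* T) (h : l.comp a = r.comp c)
    (v : Spec (CommRingCat.of A) ⟶ Y) (w : Spec (CommRingCat.of B) ⟶ X) (g : X ⟶ Y)
    (ha : Spec.map (CommRingCat.ofHom a) ≫ v = w ≫ g) (sC : Spec (CommRingCat.of C) ⟶ Y)
    (hc : Spec.map (CommRingCat.ofHom c) ≫ v = sC) :
    (Spec.map (CommRingCat.ofHom l) ≫ w) ≫ g = Spec.map (CommRingCat.ofHom r) ≫ sC := by
  have hcat : CommRingCat.ofHom a ≫ CommRingCat.ofHom l = CommRingCat.ofHom c ≫ CommRingCat.ofHom r :=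
    CommRingCat.hom_ext h
  rw [← hc, Category.assoc, ← ha, ← Category.assoc, ← Category.assoc, ← Spec.map_comp, ← Spec.map_comp, hcat]

theorem specMap_comp_assoc {A B R : Type u} [CommRing A] [CommRing B] [CommRing R] {Y : Scheme.{u}} (f : A →+* B)
    (h : B →+* R) (v : Spec (CommRingCat.of A) ⟶ Y) : Spec.map (CommRingCat.ofHom (h.comp f)) ≫ v =
      Spec.map (CommRingCat.ofHom h) ≫ Spec.map (CommRingCat.ofHom f) ≫ v := by
  rw [CommRingCat.ofHom_comp, Spec.map_comp, Category.assoc]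

theorem eq_of_common {X Y : Scheme.{u}} (g : X ⟶ Y) {x : X} (QX : EtBCQ.SH X x) (QY : EtBCQ.SH Y (g.base x))
    (a : QY.R →+* QX.R) [IsLocalHom a] (ha : Spec.map (CommRingCat.ofHom a) ≫ QY.spec = QX.spec ≫ g)
    {C T : Type u} [CommRing C] [CommRing T] [HenselianLocalRing T] (c : QY.R →+* C)
    (sC : Spec (CommRingCat.of C) ⟶ Y) (hc : Spec.map (CommRingCat.ofHom c) ≫ QY.spec = sC)
    {x' : (pullback g sC : Scheme.{u})} (QX' : EtBCQ.SH (pullback g sC) x') (ι : QX.R →+* QX'.R) (θ : C →+* QX'.R)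
    (hι : Spec.map (CommRingCat.ofHom ι) ≫ QX.spec = QX'.spec ≫ pullback.fst g sC)
    (hθ : Spec.map (CommRingCat.ofHom θ) = QX'.spec ≫ pullback.snd g sC)
    (ψ₀ : QX'.R →+* T) [IsLocalHom ψ₀] (l : QX.R →+* T) [IsLocalHom l] (r : C →+* T)
    (hι₀ : ψ₀.comp ι = l) (hθ₀ : ψ₀.comp θ = r) (h : l.comp a = r.comp c) : ι.comp a = θ.comp c := by
  haveI : IsLocalHom (l.comp a) := RingHom.isLocalHom_comp _ _
  let w := QX'.spec ≫ pullback.snd g sC ≫ sC
  have e1 : Spec.map (CommRingCat.ofHom (θ.comp c)) ≫ QY.spec = w := by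
    rw [specMap_comp_assoc, hc, hθ, Category.assoc]
  have e2 : Spec.map (CommRingCat.ofHom (ι.comp a)) ≫ QY.spec = w := by
    rw [specMap_comp_assoc, ha, ← Category.assoc, hι, Category.assoc, pullback.condition]
  obtain ⟨ψ, -, huniq⟩ := EtBCQ.existsUnique_strict QY (B := QX'.R) (C := T) w (l.comp a) ψ₀ (by
    rw [← e2, ← specMap_comp_assoc, ← RingHom.comp_assoc, hι₀])
  exact (huniq _ ⟨e2, by rw [← RingHom.comp_assoc, hι₀]⟩).trans
    (huniq _ ⟨e1, by rw [← RingHom.comp_assoc, hθ₀, h]⟩).symm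

/-- the strict localisation of a base change along an integral algebra of a strict localisation -/
theorem exists_strict_pushout {X Y : Scheme.{u}} (g : X ⟶ Y) {x : X} (QX : EtBCQ.SH X x)
    (QY : EtBCQ.SH Y (g.base x)) [Algebra QY.R QX.R] [IsLocalHom (algebraMap QY.R QX.R)]
    (hθ : Spec.map (CommRingCat.ofHom (algebraMap QY.R QX.R)) ≫ QY.spec = QX.spec ≫ g)
    (C : Type u) [CommRing C] [IsLocalRing C] [Algebra QY.R C] [Algebra.IsIntegral QY.R C]
    (sC : Spec (CommRingCat.of C) ⟶ Y)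
    (hsC : Spec.map (CommRingCat.ofHom (algebraMap QY.R C)) ≫ QY.spec = sC) :
    ∃ (x' : (pullback g sC : Scheme.{u})) (_ : (pullback.snd g sC).base x' = closedPoint C)
      (QX' : EtBCQ.SH (pullback g sC) x') (ι : QX.R →+* QX'.R) (θ : C →+* QX'.R) (_ : IsLocalHom θ),
      Spec.map (CommRingCat.ofHom θ) = QX'.spec ≫ pullback.snd g sC ∧
        IsPushout (CommRingCat.ofHom (algebraMap QY.R QX.R)) (CommRingCat.ofHom (algebraMap QY.R C))
          (CommRingCat.ofHom ι) (CommRingCat.ofHom θ) := by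
  let RY := QY.R
  let RX := QX.R
  haveI : HenselianLocalRing C := henselian_integral RY C
  haveI : IsSepClosed (ResidueField C) := isSepClosed_residue_integral RY C
  haveI : IsLocalHom (algebraMap RY C) := isLocalHom_of_integral RY C
  let T := RX ⊗[RY] C
  haveI : Nontrivial T := nontrivial_tensor RY C RX
  haveI : IsLocalRing T := isLocalRing_tensor RY RX C
  haveI : Algebra.IsIntegral RX T := inferInstance
  haveI : HenselianLocalRing T := henselian_integral RX T
  haveI : IsSepClosed (ResidueField T) := isSepClosed_residue_integral RX T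
  let inL : RX →+* T := algebraMap RX T
  haveI : IsLocalHom inL := isLocalHom_of_integral RX T
  let inR : C →+* T := (Algebra.TensorProduct.includeRight : C →ₐ[RY] T).toRingHom
  have hLR : inL.comp (algebraMap RY RX) = inR.comp (algebraMap RY C) :=
    RingHom.ext fun r => ((Algebra.TensorProduct.includeRight : C →ₐ[RY] T).commutes r).symm
  haveI : IsLocalHom inR := by
    refine ((local_hom_TFAE inR).out 0 4).2 (eq_maximalIdeal ?_)
    refine Ideal.isMaximal_of_isIntegral_of_isMaximal_comap (R := RY) _ ?_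
    rw [Ideal.comap_comap]
    have h1 : IsLocalHom (inR.comp (algebraMap RY C)) := hLR ▸ RingHom.isLocalHom_comp inL (algebraMap RY RX)
    rw [show Ideal.comap (inR.comp (algebraMap RY C)) (maximalIdeal T) = maximalIdeal RY from
      ((local_hom_TFAE (inR.comp (algebraMap RY C))).out 0 4).1 h1]
    infer_instance
  have hkv : (Spec.map (CommRingCat.ofHom inL) ≫ QX.spec) ≫ g = Spec.map (CommRingCat.ofHom inR) ≫ sC := by
    exact square_of_comp (algebraMap RY RX) (algebraMap RY C) inL inR hLR QY.spec QX.spec g hθ sC hsC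
  let kv : Spec (CommRingCat.of T) ⟶ pullback g sC := pullback.lift _ _ hkv
  let x' := kv (closedPoint T)
  have hx' : (pullback.fst g sC).base x' = x := by
    show (kv ≫ pullback.fst g sC) (closedPoint T) = x
    rw [pullback.lift_fst, Scheme.Hom.comp_apply, EtBCQ.Spec_closedPoint', QX.spec_closed]
  have hz : (pullback.snd g sC).base x' = closedPoint C := by
    show (kv ≫ pullback.snd g sC) (closedPoint T) = _
    rw [pullback.lift_snd, EtBCQ.Spec_closedPoint']
  let QX' := EtBCQ.mkSH (pullback g sC) x'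
  obtain ⟨ψ₀, hψ₀l, hψ₀⟩ := EtBCQ.exists_strict_hom QX' kv rfl
  haveI := hψ₀l
  obtain ⟨θ', hθ'⟩ : ∃ θ' : C →+* QX'.R, Spec.map (CommRingCat.ofHom θ') = QX'.spec ≫ pullback.snd g sC :=
    ⟨(Spec.preimage (QX'.spec ≫ pullback.snd g sC)).hom, Spec.map_preimage _⟩
  haveI : IsLocalHom θ' := isLocalHom_of_closed θ' (by
    rw [hθ', Scheme.Hom.comp_apply, QX'.spec_closed]; exact hz)
  have hθ₀ : ψ₀.comp θ' = inR := by
    refine congrArg CommRingCat.Hom.hom (Spec.map_injective ?_ :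
      CommRingCat.ofHom θ' ≫ CommRingCat.ofHom ψ₀ = CommRingCat.ofHom inR)
    rw [Spec.map_comp, hθ', ← Category.assoc, hψ₀, pullback.lift_snd]
  obtain ⟨ι, ⟨hι, hι₀⟩, -⟩ := EtBCQ.existsUnique_strict QX (B := QX'.R) (C := T) (QX'.spec ≫ pullback.fst g sC)
    inL ψ₀ (by rw [← Category.assoc, hψ₀, pullback.lift_fst])
  haveI : IsLocalHom ι := ⟨fun a ha => isUnit_of_map_unit inL a (by rw [← hι₀]; exact ha.map ψ₀)⟩
  have hιθ : ι.comp (algebraMap RY RX) = θ'.comp (algebraMap RY C) := by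
    exact eq_of_common g QX QY (algebraMap RY RX) hθ (algebraMap RY C) sC hsC QX' ι θ' hι hθ' ψ₀ inL inR hι₀ hθ₀ hLR
  have hQS : (selfSH C ((pullback.snd g sC).base x') hz).spec = 𝟙 _ := selfSH_spec C _ hz
  refine ⟨x', hz, QX', ι, θ', inferInstance, hθ', ?_⟩
  exact pushout_of_strict g sC hx' QX (selfSH C ((pullback.snd g sC).base x') hz) QX' QY.spec hθ
    (hsC.trans ((congrArg (· ≫ sC) hQS).trans (Category.id_comp _)).symm) ι θ' hι
    ((congrArg (Spec.map (CommRingCat.ofHom θ') ≫ ·) hQS).trans ((Category.comp_id _).trans hθ')) hιθ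

/-- restriction to a geometric fibre from base change in the limit -/
theorem bijective_fibre {P : Scheme.{u}} {C Ω : Type u} [CommRing C] [HenselianLocalRing C]
    [IsSepClosed (ResidueField C)] [CommRing Ω] (f₀ : P ⟶ Spec (CommRingCat.of C)) {x' : P}
    (hz : f₀.base x' = closedPoint C) (QX' : EtBCQ.SH P x') (θ : C →+* QX'.R) [IsLocalHom θ]
    (hθ : Spec.map (CommRingCat.ofHom θ) = QX'.spec ≫ f₀)
    (g₀ : Spec (CommRingCat.of Ω) ⟶ Spec (CommRingCat.of C))
    [PreservesFiniteLimits (EtCoh.pull (pullback.snd f₀ g₀))]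
    [PreservesFiniteLimits (EtCoh.pull (pullback.fst g₀ (QX'.spec ≫ f₀)))]
    (F : EtCoh.Ab (Spec (CommRingCat.of Ω))) (q : ℕ)
    [IsIso (EtBC.bcQ g₀ f₀ (pullback.fst f₀ g₀) (pullback.snd f₀ g₀) pullback.condition.symm q F)] :
    Function.Bijective (EtCore.HpullVia (pullback.fst g₀ (QX'.spec ≫ f₀)) (𝟙 _) (pullback.fst g₀ (QX'.spec ≫ f₀))
      (Category.comp_id _) F q) := by
  haveI : QuasiCompact g₀ := inferInstance
  haveI : QuasiSeparated g₀ := inferInstance
  have hQS : (selfSH C (f₀.base x') hz).spec = 𝟙 _ := selfSH_spec C _ hz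
  haveI : IsIso (selfSH C (f₀.base x') hz).spec := by rw [hQS]; infer_instance
  refine EtBCQ.bijective_stage f₀ g₀ (pullback.fst f₀ g₀) (pullback.snd f₀ g₀)
    (IsPullback.of_hasPullback f₀ g₀).flip F q (selfSH C (f₀.base x') hz) QX' θ
    ((congrArg (Spec.map (CommRingCat.ofHom θ) ≫ ·) hQS).trans ((Category.comp_id _).trans hθ))
    (Spec (CommRingCat.of Ω)) _ (𝟙 _) g₀ (IsPullback.of_horiz_isIso ⟨?_⟩) _ (pullback.snd g₀ (QX'.spec ≫ f₀))
    (IsPullback.of_hasPullback g₀ (QX'.spec ≫ f₀)) _ (Category.comp_id _) ?_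
  · exact (Category.id_comp _).trans ((congrArg (g₀ ≫ ·) hQS).trans (Category.comp_id _)).symm
  · exact pullback.condition.trans (congrArg (pullback.snd g₀ (QX'.spec ≫ f₀) ≫ ·) hθ.symm)

section Field

variable {Z : Scheme.{u}} (Ω : Type u) [Field Ω] [IsSepClosed Ω]

theorem card_H_zero_const_field (M : Type) [AddCommGroup M] :
    Nat.card (EtCoh.H (Spec (CommRingCat.of Ω)) (EtCoh.const (Spec (CommRingCat.of Ω)) M) 0) = Nat.card M := by
  haveI : IsSepClosed (ResidueField Ω) :=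
    Hensel.isSepClosed_of_ringEquiv (RingEquiv.ofBijective (residue Ω) ⟨(residue Ω).injective, residue_surjective⟩)
  let N := AddCommGrpCat.of (ULift.{u + 1} M)
  let A := AddCommGrpCat.of (ULift.{u + 1} ℤ)
  have e : (A ⟶ N) ≃ N :=
    { toFun := fun f => f ⟨1⟩
      invFun := fun m => AddCommGrpCat.ofHom
        ((zmultiplesHom N m).comp (AddEquiv.ulift : ULift.{u + 1} ℤ ≃+ ℤ).toAddMonoidHom)
      left_inv := fun f => by
        refine AddCommGrpCat.hom_ext (AddMonoidHom.ext fun z => ?_)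
        obtain ⟨k⟩ := z
        show k • f.hom ⟨1⟩ = f.hom ⟨k⟩
        rw [← map_zsmul]
        refine congrArg _ (ULift.ext _ _ ?_)
        show k • (1 : ℤ) = k
        simp
      right_inv := fun (m : N) => show (1 : ℤ) • m = m from one_zsmul m }
  exact (Nat.card_eq_of_bijective _ ((Ext.mk₀_bijective _ _).comp
    (const_map_bijective (constTop_henselian Ω) A N))).symm.trans ((Nat.card_congr e).trans (Nat.card_congr Equiv.ulift))

theorem acyclic_of_Hpull {L : Set ℕ} {n : ℕ} (hL : ∃ ℓ ∈ L, ℓ.Prime) (a : Z ⟶ Spec (CommRingCat.of Ω))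
    (h : ∀ ℓ : ℕ, ℓ.Prime → ℓ ∈ L → ∀ q : ℕ, q ≤ n → ∀ [PreservesFiniteLimits (EtCoh.pull a)],
      ∃ (F : EtCoh.Ab (Spec (CommRingCat.of Ω))) (_ : F ≅ EtCoh.const (Spec (CommRingCat.of Ω)) (ZMod ℓ)),
        Function.Bijective (EtCore.HpullVia a (𝟙 _) a (Category.comp_id a) F q)) :
    EtAcyc.IsAcyclicSchemeN L n Z := by
  haveI : IsSepClosed (ResidueField Ω) :=
    Hensel.isSepClosed_of_ringEquiv (RingEquiv.ofBijective (residue Ω) ⟨(residue Ω).injective, residue_surjective⟩)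
  haveI : PreservesFiniteLimits (EtCoh.pull a) := EtPullExact.pull_preservesFiniteLimits _
  have key : ∀ ℓ : ℕ, ℓ.Prime → ℓ ∈ L → ∀ q : ℕ, q ≤ n →
      ∃ (f : EtCoh.H (Spec (CommRingCat.of Ω)) (EtCoh.const (Spec (CommRingCat.of Ω)) (ZMod ℓ)) q →
        EtCoh.H Z (EtCoh.const Z (ZMod ℓ)) q), Function.Bijective f := by
    intro ℓ hℓ hℓL q hq
    obtain ⟨F, e, hb⟩ := h ℓ hℓ hℓL q hq
    haveI : IsIso (EtLimit.ψh (𝟙 (Spec (CommRingCat.of Ω))) (𝟙 _) (𝟙 _) (Category.comp_id _) F) :=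
      EtBCQ.isIso_ψh _ _ _ _ F
    let i₁ : (EtCoh.pull (𝟙 (Spec (CommRingCat.of Ω)))).obj F ≅ EtCoh.const _ (ZMod ℓ) :=
      (EtCoh.pull (𝟙 _)).mapIso e ≪≫ (EtCore.pullConstIso (𝟙 (Spec (CommRingCat.of Ω)))).app _
    let i₂ : (EtCoh.pull a).obj F ≅ EtCoh.const Z (ZMod ℓ) :=
      (EtCoh.pull a).mapIso e ≪≫ (EtCore.pullConstIso a).app _
    exact ⟨_, ((bijective_comp_iso i₂.hom q).comp hb).comp (bijective_comp_iso i₁.inv q)⟩
  obtain ⟨ℓ₀, hℓ₀L, hℓ₀⟩ := hL
  obtain ⟨f₀, hf₀⟩ := key ℓ₀ hℓ₀ hℓ₀L 0 (Nat.zero_le n)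
  have hc : Nat.card (EtCoh.sect (EtCoh.const Z (ZMod ℓ₀)) (EtCoh.top Z)) = Nat.card (ZMod ℓ₀) := by
    rw [← card_H_zero, ← Nat.card_eq_of_bijective f₀ hf₀, card_H_zero_const_field]
  have h1 : 1 < Nat.card (ZMod ℓ₀) := by rw [Nat.card_zmod]; exact hℓ₀.one_lt
  refine ⟨nonempty_of_card h1 hc, connectedSpace_of_card h1 hc, fun ℓ hℓ hℓL q hq1 hqn => ?_⟩
  obtain ⟨f, hf⟩ := key ℓ hℓ hℓL q hqn
  obtain ⟨p, rfl⟩ := Nat.exists_eq_add_of_le' hq1
  haveI := subsingleton_H_henselian Ω (EtCoh.const (Spec (CommRingCat.of Ω)) (ZMod ℓ)) p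
  exact hf.2.subsingleton

end Field

theorem torsion_const_prime {Y : Scheme.{u}} {L : Set ℕ} {ℓ : ℕ} (hℓ : ℓ.Prime) (hℓL : ℓ ∈ L) :
    EtAcyc.IsLTorsion L (EtCoh.const Y (ZMod ℓ)) :=
  isLTorsion_constB _ fun m => ⟨ℓ, ⟨hℓ.pos, fun p hp hd => ((Nat.prime_dvd_prime_iff_eq hp hℓ).1 hd).symm ▸ hℓL⟩, by
    obtain ⟨m⟩ := m
    exact congrArg ULift.up (show ℓ • m = 0 by simp [nsmul_eq_mul])⟩

/-- one geometric fibre -/
theorem acyclic_fibre_of_bcOpen {X Y : Scheme.{u}} (g : X ⟶ Y) {L : Set ℕ} {n : ℕ} (hL : ∃ ℓ ∈ L, ℓ.Prime)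
    (H : BCOpen g L n) {x : X} (QX : EtBCQ.SH X x) (QY : EtBCQ.SH Y (g.base x)) [Algebra QY.R QX.R]
    [IsLocalHom (algebraMap QY.R QX.R)]
    (hθ : Spec.map (CommRingCat.ofHom (algebraMap QY.R QX.R)) ≫ QY.spec = QX.spec ≫ g)
    (Ω : Type u) [Field Ω] [IsSepClosed Ω] [Algebra QY.R Ω]
    (halg : ∀ z : Ω, ∃ b : QY.R, algebraMap QY.R Ω b ≠ 0 ∧ IsIntegral QY.R (algebraMap QY.R Ω b * z)) :
    EtAcyc.IsAcyclicSchemeN L n (pullback (Spec.map (CommRingCat.ofHom (algebraMap QY.R QX.R)))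
      (Spec.map (CommRingCat.ofHom (algebraMap QY.R Ω)))) := by
  let C := integralClosure QY.R Ω
  haveI : Algebra.IsIntegral QY.R C := inferInstance
  haveI : IsLocalRing C := Hensel.isLocalRing_of_integral_domain QY.R C
  haveI : HenselianLocalRing C := henselian_integral QY.R C
  haveI : IsSepClosed (ResidueField C) := isSepClosed_residue_integral QY.R C
  let sC : Spec (CommRingCat.of C) ⟶ Y := Spec.map (CommRingCat.ofHom (algebraMap QY.R C)) ≫ QY.spec
  obtain ⟨x', hz, QX', ι, θ, _, hθ', hpush⟩ := exists_strict_pushout g QX QY hθ C sC rfl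
  let f₀ := pullback.snd g sC
  let g₀ : Spec (CommRingCat.of Ω) ⟶ Spec (CommRingCat.of C) := Spec.map (CommRingCat.ofHom C.val.toRingHom)
  have hiso : EtAcyc.IsAcyclicSchemeN L n (pullback g₀ (QX'.spec ≫ f₀)) := by
    refine acyclic_of_Hpull Ω hL (pullback.fst g₀ (QX'.spec ≫ f₀)) fun ℓ hℓ hℓL q hq _ => ?_
    obtain ⟨R, _, algR, cR, _, _, hcR, hRu⟩ := exists_chart_union QY
    letI : Algebra R QY.R := algR
    letI : Algebra R Ω := ((algebraMap QY.R Ω).comp (algebraMap R QY.R)).toAlgebra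
    haveI : IsScalarTower R QY.R Ω := IsScalarTower.of_algebraMap_eq fun _ => rfl
    haveI : PreservesFiniteLimits (EtCoh.pull (pullback.snd f₀ g₀)) := EtPullExact.pull_preservesFiniteLimits _
    haveI := isIso_bcQ_models g H cR hRu halg sC (by
      refine Eq.trans ?_ (congrArg (Spec.map (CommRingCat.ofHom (algebraMap QY.R C)) ≫ ·) hcR)
      refine Eq.trans (congrArg (· ≫ cR) ?_) (Category.assoc _ _ _)
      rw [← Spec.map_comp]
      rfl) (EtCoh.const Y (ZMod ℓ)) (torsion_const_prime hℓ hℓL) q hq g₀ rfl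
    exact ⟨(EtCoh.pull (g₀ ≫ sC)).obj (EtCoh.const Y (ZMod ℓ)), (EtCore.pullConstIso (g₀ ≫ sC)).app _,
      bijective_fibre f₀ hz QX' θ hθ' g₀ _ q⟩
  have sq1 := isPullback_SpecMap_of_isPushout _ _ _ _ hpush
  have sq2 : IsPullback (pullback.snd g₀ (QX'.spec ≫ f₀)) (pullback.fst g₀ (QX'.spec ≫ f₀))
      (Spec.map (CommRingCat.ofHom θ)) g₀ := by
    rw [hθ']; exact (IsPullback.of_hasPullback g₀ (QX'.spec ≫ f₀)).flip
  have he : g₀ ≫ Spec.map (CommRingCat.ofHom (algebraMap QY.R C)) = Spec.map (CommRingCat.ofHom (algebraMap QY.R Ω)) :=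
    (Spec.map_comp _ _).symm
  exact isAcyclicSchemeN_of_iso ((sq2.paste_horiz sq1).isoPullback ≪≫ pullback.congrHom rfl he) hiso

theorem geomFibres_of_bcOpen {X Y : Scheme.{u}} (g : X ⟶ Y) {L : Set ℕ} {n : ℕ} (hL : ∃ ℓ ∈ L, ℓ.Prime)
    (H : BCOpen g L n) : EtAcyc.OnStrictLocalizations g (fun _ _ m => EtAcyc.GeomFibresAcyclicN L n m) := by
  intro x RY RX _ _ _ _ _ _ _ _ _ _ _ _ hc y Ω _ _ _ _
  obtain ⟨φ, hφ, hfrac⟩ := exists_residue_frac y
  letI : Algebra RY ((Spec (CommRingCat.of RY)).residueField y) := φ.toAlgebra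
  letI : Algebra RY Ω := ((algebraMap ((Spec (CommRingCat.of RY)).residueField y) Ω).comp φ).toAlgebra
  haveI : IsScalarTower RY ((Spec (CommRingCat.of RY)).residueField y) Ω :=
    IsScalarTower.of_algebraMap_eq fun _ => rfl
  have hτ : Spec.map (CommRingCat.ofHom (algebraMap RY Ω)) = EtAcyc.geomPt (Spec (CommRingCat.of RY)) y Ω :=
    (Spec.map_comp (CommRingCat.ofHom φ) _).trans (congrArg (_ ≫ ·) hφ)
  let QX : EtBCQ.SH X x := { R := RX }
  let QY : EtBCQ.SH Y (g.base x) := { R := RY }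
  have h := acyclic_fibre_of_bcOpen g hL H QX QY (EtBCQ.specOf_comp g x RY RX (algebraMap RY RX) hc).symm Ω
    (exists_integral_multiple_of_residue (K := (Spec (CommRingCat.of RY)).residueField y) hfrac)
  exact isAcyclicSchemeN_of_iso (pullback.congrHom rfl hτ) h

/-- the reverse implication -/
theorem isLocAcyclicN_of_bcOpen {X Y : Scheme.{u}} (g : X ⟶ Y) {L : Set ℕ} {n : ℕ}
    (H : BCOpen g L n) : EtAcyc.IsLocAcyclicN g L n := by
  by_cases hL : ∃ ℓ ∈ L, ℓ.Prime
  · exact isLocAcyclicN_of_fibres g (geomFibres_of_bcOpen g hL H)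
  · intro x RY RX _ _ _ _ _ _ _ _ _ _ _ _ _ V G hG _
    have hz := isZero_of_noPrimes hL hG
    haveI hs : ∀ q, Subsingleton (EtCoh.H V.left G q) := fun q =>
      AddCommGrpCat.subsingleton_of_isZero ((EtCoh.HF _ q).map_isZero hz)
    haveI : ∀ q, Subsingleton (EtCoh.H _ ((EtCoh.pull (EtAcyc.prj (Spec.map (CommRingCat.ofHom (algebraMap RY RX))) V)).obj G) q) :=
      fun q => AddCommGrpCat.subsingleton_of_isZero ((EtCoh.HF _ q).map_isZero ((EtCoh.pull _).map_isZero hz))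
    exact ⟨fun q _ => ⟨fun a b _ => Subsingleton.elim a b, fun b => ⟨0, Subsingleton.elim _ b⟩⟩,
      fun a b _ => Subsingleton.elim a b⟩

end Groth.Agent.EtOpenBC
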