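import Mathlib

/-! A field algebraic over a ring which is a union of quasi-finite algebras, as a union of localisations of
quasi-finite models. -/

set_option autoImplicit false
set_option linter.style.haveILetI false
set_option linter.unusedSectionVars false

universe u

open scoped TensorProduct

noncomputable section

namespace Groth.Agent.EtOpenBC

variable (R RY Ω : Type u) [CommRing R] [CommRing RY] [Field Ω] [Algebra R RY] [Algebra RY Ω] [Algebra R Ω]
  [IsScalarTower R RY Ω]

/-- quasi-finite models of the integral closure, with an element to invert -/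
structure Stg where
  /-- the model -/
  D : Subalgebra R Ω
  ft : Algebra.FiniteType R D
  qf : Algebra.QuasiFinite R D
  le : D ≤ (integralClosure RY Ω).restrictScalars R
  /-- the inverted element -/
  b : Ω
  mem : b ∈ D
  ne : b ≠ 0

variable {R RY Ω}

/-- the localised model -/
def Stg.T (a : Stg R RY Ω) : Subalgebra R Ω where
  carrier := {x | ∃ k : ℕ, a.b ^ k * x ∈ a.D}
  mul_mem' := by
    rintro x y ⟨k, hk⟩ ⟨l, hl⟩
    exact ⟨k + l, by rw [pow_add, show a.b ^ k * a.b ^ l * (x * y) = (a.b ^ k * x) * (a.b ^ l * y) by ring]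
                     exact mul_mem hk hl⟩
  add_mem' := by
    rintro x y ⟨k, hk⟩ ⟨l, hl⟩
    refine ⟨k + l, ?_⟩
    rw [show a.b ^ (k + l) * (x + y) = a.b ^ l * (a.b ^ k * x) + a.b ^ k * (a.b ^ l * y) by ring]
    exact add_mem (mul_mem (pow_mem a.mem l) hk) (mul_mem (pow_mem a.mem k) hl)
  algebraMap_mem' r := ⟨0, by simp⟩

theorem Stg.le_T (a : Stg R RY Ω) : a.D ≤ a.T := fun x hx => ⟨0, by simpa using hx⟩

theorem Stg.mem_T (a : Stg R RY Ω) {x : Ω} : x ∈ a.T ↔ ∃ k : ℕ, a.b ^ k * x ∈ a.D := Iff.rfl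

instance : Preorder (Stg R RY Ω) where
  le a a' := a.D ≤ a'.D ∧ a.T ≤ a'.T
  le_refl a := ⟨le_rfl, le_rfl⟩
  le_trans a b c h h' := ⟨h.1.trans h'.1, h.2.trans h'.2⟩

theorem sup_good (D D' : Subalgebra R Ω) (hf : Algebra.FiniteType R D) (hq : Algebra.QuasiFinite R D)
    (hf' : Algebra.FiniteType R D') (hq' : Algebra.QuasiFinite R D') :
    Algebra.FiniteType R (D ⊔ D' : Subalgebra R Ω) ∧ Algebra.QuasiFinite R (D ⊔ D' : Subalgebra R Ω) := by
  haveI := hf
  haveI := hf'
  haveI := hq
  haveI := hq'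
  haveI : Algebra.QuasiFinite R (D ⊗[R] D') := Algebra.QuasiFinite.trans R D (D ⊗[R] D')
  haveI : Algebra.FiniteType D (D ⊗[R] D') := Algebra.FiniteType.baseChange D
  haveI : Algebra.FiniteType R (D ⊗[R] D') := Algebra.FiniteType.trans ‹Algebra.FiniteType R D› ‹_›
  let φ : D ⊗[R] D' →ₐ[R] Ω := Algebra.TensorProduct.productMap D.val D'.val
  have hr : φ.range = D ⊔ D' := by
    rw [Algebra.TensorProduct.productMap_range, Subalgebra.range_val, Subalgebra.range_val]
  let ψ : D ⊗[R] D' →ₐ[R] (D ⊔ D' : Subalgebra R Ω) :=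
    (Subalgebra.equivOfEq _ _ hr).toAlgHom.comp φ.rangeRestrict
  have hs : Function.Surjective ψ := (Subalgebra.equivOfEq _ _ hr).surjective.comp φ.rangeRestrict_surjective
  exact ⟨Algebra.FiniteType.of_surjective ψ hs, Algebra.QuasiFinite.of_surjective_algHom ψ hs⟩

instance : Nonempty (Stg R RY Ω) := by
  let φ : R →ₐ[R] Ω := Algebra.ofId R Ω
  exact ⟨{ D := φ.range
           ft := Algebra.FiniteType.of_surjective φ.rangeRestrict φ.rangeRestrict_surjective
           qf := Algebra.QuasiFinite.of_surjective_algHom φ.rangeRestrict φ.rangeRestrict_surjective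
           le := by
             rintro _ ⟨r, rfl⟩
             exact ((integralClosure RY Ω).restrictScalars R).algebraMap_mem r
           b := 1
           mem := one_mem _
           ne := one_ne_zero }⟩

instance : IsDirectedOrder (Stg R RY Ω) := by
  refine ⟨fun a a' => ?_⟩
  obtain ⟨hf, hq⟩ := sup_good a.D a'.D a.ft a.qf a'.ft a'.qf
  let c : Stg R RY Ω :=
    { D := a.D ⊔ a'.D, ft := hf, qf := hq, le := sup_le a.le a'.le, b := a.b * a'.b
      mem := mul_mem ((le_sup_left : a.D ≤ _) a.mem) ((le_sup_right : a'.D ≤ _) a'.mem)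
      ne := mul_ne_zero a.ne a'.ne }
  refine ⟨c, ⟨le_sup_left, fun x hx => ?_⟩, ⟨le_sup_right, fun x hx => ?_⟩⟩
  · obtain ⟨k, hk⟩ := hx
    refine ⟨k, ?_⟩
    show (a.b * a'.b) ^ k * x ∈ a.D ⊔ a'.D
    rw [mul_pow, mul_right_comm]
    exact mul_mem ((le_sup_left : a.D ≤ _) hk) (pow_mem ((le_sup_right : a'.D ≤ _) a'.mem) k)
  · obtain ⟨k, hk⟩ := hx
    refine ⟨k, ?_⟩
    show (a.b * a'.b) ^ k * x ∈ a.D ⊔ a'.D
    rw [mul_pow, mul_assoc]
    exact mul_mem (pow_mem ((le_sup_left : a.D ≤ _) a.mem) k) ((le_sup_right : a'.D ≤ _) hk)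

/-- the union condition on the base -/
def IsQFUnion (R RY : Type u) [CommRing R] [CommRing RY] [Algebra R RY] : Prop :=
  ∀ z : RY, ∃ (C : Type u) (_ : CommRing C) (_ : Algebra R C) (_ : Algebra.FiniteType R C)
    (_ : Algebra.QuasiFinite R C) (φ : C →ₐ[R] RY), z ∈ Set.range φ

theorem exists_stg_mem (hR : IsQFUnion R RY) (z : RY) : ∃ a : Stg R RY Ω, algebraMap RY Ω z ∈ a.D := by
  obtain ⟨C, _, _, hf, hq, φ, y, rfl⟩ := hR z
  let ψ : C →ₐ[R] Ω := (IsScalarTower.toAlgHom R RY Ω).comp φ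
  exact ⟨{ D := ψ.range
           ft := Algebra.FiniteType.of_surjective ψ.rangeRestrict ψ.rangeRestrict_surjective
           qf := Algebra.QuasiFinite.of_surjective_algHom ψ.rangeRestrict ψ.rangeRestrict_surjective
           le := by
             rintro _ ⟨w, rfl⟩
             exact (integralClosure RY Ω).algebraMap_mem (φ w)
           b := 1
           mem := one_mem _
           ne := one_ne_zero }, y, rfl⟩

theorem exists_stg_isIntegral (hR : IsQFUnion R RY) {c : Ω} (hc : IsIntegral RY c) :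
    ∃ a : Stg R RY Ω, c ∈ a.D := by
  classical
  obtain ⟨p, hp, hpc⟩ := hc
  choose a ha using fun k => exists_stg_mem (Ω := Ω) hR (p.coeff k)
  obtain ⟨A, hA⟩ := Finset.exists_le ((Finset.range (p.natDegree + 1)).image a)
  have hcoef : ∀ k, algebraMap RY Ω (p.coeff k) ∈ A.D := by
    intro k
    by_cases hk : k ≤ p.natDegree
    · exact (hA _ (Finset.mem_image_of_mem a (Finset.mem_range.2 (Nat.lt_succ_of_le hk)))).1 (ha k)
    · rw [Polynomial.coeff_eq_zero_of_natDegree_lt (not_le.1 hk), map_zero]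
      exact zero_mem _
  let q : Polynomial A.D := (p.map (algebraMap RY Ω)).toSubring A.D.toSubring fun x hx => by
    obtain ⟨k, -, rfl⟩ := Polynomial.mem_coeffs_iff.1 hx
    rw [Polynomial.coeff_map]
    exact hcoef k
  have hq : IsIntegral A.D c := by
    refine ⟨q, (Polynomial.monic_toSubring _ _ _).2 (hp.map _), ?_⟩
    rw [Polynomial.eval₂_eq_eval_map]
    have : q.map (algebraMap A.D Ω) = p.map (algebraMap RY Ω) := Polynomial.ext fun k => by
      rw [Polynomial.coeff_map]
      exact Polynomial.coeff_toSubring _ _ _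
    rw [this, ← Polynomial.eval₂_eq_eval_map]
    exact hpc
  haveI := A.ft
  haveI := A.qf
  let E := Algebra.adjoin A.D ({c} : Set Ω)
  haveI : Module.Finite A.D E := Module.Finite.iff_fg.2 hq.fg_adjoin_singleton
  haveI : Algebra.QuasiFinite R E := Algebra.QuasiFinite.trans R A.D E
  haveI : Algebra.FiniteType R E := Algebra.FiniteType.trans A.ft inferInstance
  let ε : E →ₐ[R] Ω := E.val.restrictScalars R
  have hmem : c ∈ ε.range := ⟨⟨c, Algebra.self_mem_adjoin_singleton _ _⟩, rfl⟩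
  have hft : Algebra.FiniteType R ε.range :=
    Algebra.FiniteType.of_surjective ε.rangeRestrict ε.rangeRestrict_surjective
  have hqf : Algebra.QuasiFinite R ε.range :=
    Algebra.QuasiFinite.of_surjective_algHom ε.rangeRestrict ε.rangeRestrict_surjective
  have hle : ε.range ≤ (integralClosure RY Ω).restrictScalars R := by
    rintro _ ⟨⟨y, hy⟩, rfl⟩
    show y ∈ integralClosure RY Ω
    refine Algebra.adjoin_induction ?_ ?_ (fun _ _ _ _ h h' => add_mem h h') (fun _ _ _ _ h h' => mul_mem h h') hy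
    · rintro _ rfl
      exact ⟨p, hp, hpc⟩
    · exact fun r => A.le r.2
  exact ⟨⟨ε.range, hft, hqf, hle, 1, one_mem _, one_ne_zero⟩, hmem⟩

theorem exists_stg_cover (hR : IsQFUnion R RY)
    (halg : ∀ x : Ω, ∃ b : RY, algebraMap RY Ω b ≠ 0 ∧ IsIntegral RY (algebraMap RY Ω b * x)) (x : Ω) :
    ∃ a : Stg R RY Ω, x ∈ a.T := by
  obtain ⟨b, hb, hx⟩ := halg x
  obtain ⟨A, hA⟩ := exists_stg_isIntegral hR hx
  obtain ⟨B, hB⟩ := exists_stg_mem (Ω := Ω) hR b
  obtain ⟨c, hAc, hBc⟩ := exists_ge_ge A B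
  refine ⟨{ c with b := algebraMap RY Ω b, mem := hBc.1 hB, ne := hb }, 1, ?_⟩
  show algebraMap RY Ω b ^ 1 * x ∈ c.D
  rw [pow_one]
  exact hAc.1 hA

/-- an algebraic extension of the fraction field is obtained by inverting elements -/
theorem exists_integral_multiple_of_residue {K : Type u} [Field K] [Algebra RY K] [Algebra K Ω]
    [IsScalarTower RY K Ω] [Algebra.IsAlgebraic K Ω]
    (hfrac : ∀ z : K, ∃ a b : RY, algebraMap RY K b ≠ 0 ∧ z * algebraMap RY K b = algebraMap RY K a) (x : Ω) :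
    ∃ b : RY, algebraMap RY Ω b ≠ 0 ∧ IsIntegral RY (algebraMap RY Ω b * x) := by
  let P := RingHom.ker (algebraMap RY K)
  haveI : P.IsPrime := RingHom.ker_isPrime _
  let A := RY ⧸ P
  letI : Algebra A K := (RingHom.kerLift (algebraMap RY K)).toAlgebra
  haveI : IsScalarTower RY A K := IsScalarTower.of_algebraMap_eq fun _ => rfl
  letI : Algebra A Ω := ((algebraMap K Ω).comp (algebraMap A K)).toAlgebra
  haveI : IsScalarTower A K Ω := IsScalarTower.of_algebraMap_eq fun _ => rfl
  haveI : IsScalarTower RY A Ω := IsScalarTower.of_algebraMap_eq fun r => by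
    rw [IsScalarTower.algebraMap_apply RY K Ω, IsScalarTower.algebraMap_apply A K Ω,
      ← IsScalarTower.algebraMap_apply RY A K]
  have hinj : Function.Injective (algebraMap A K) := RingHom.kerLift_injective _
  haveI : IsFractionRing A K := by
    refine ⟨fun ⟨y, hy⟩ => ?_, fun z => ?_, fun {y z} h => ⟨1, by simpa using hinj h⟩⟩
    · exact isUnit_iff_ne_zero.2 fun h0 => nonZeroDivisors.ne_zero hy (hinj (h0.trans (map_zero _).symm))
    · obtain ⟨a, b, hb, hz⟩ := hfrac z
      refine ⟨⟨Ideal.Quotient.mk P a, ⟨Ideal.Quotient.mk P b, mem_nonZeroDivisors_of_ne_zero fun h0 => hb ?_⟩⟩, hz⟩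
      exact RingHom.mem_ker.1 (Ideal.Quotient.eq_zero_iff_mem.1 h0)
  haveI : Algebra.IsAlgebraic A Ω := (IsFractionRing.comap_isAlgebraic_iff (A := A) (K := K) (C := Ω)).2 inferInstance
  obtain ⟨y, hy, hint⟩ := (Algebra.IsAlgebraic.isAlgebraic (R := A) x).exists_integral_multiple
  obtain ⟨b, rfl⟩ := Ideal.Quotient.mk_surjective y
  refine ⟨b, ?_, ?_⟩
  · rw [IsScalarTower.algebraMap_apply RY A Ω, IsScalarTower.algebraMap_apply A K Ω, ne_eq, map_eq_zero]
    exact fun h0 => hy (hinj (h0.trans (map_zero _).symm))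
  · have h1 : IsIntegral A (algebraMap RY Ω b * x) := by
      rw [IsScalarTower.algebraMap_apply RY A Ω, ← Algebra.smul_def]
      exact hint
    exact isIntegral_trans (R := RY) (A := A) _ h1

end Groth.Agent.EtOpenBC
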