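import Groth.Agent.S6701
import Groth.Agent.EtOpenBC.SubSys
import Groth.Agent.EtOpenBC.Models
import Groth.Agent.EtOpenBC.ConstSys
import Groth.Agent.EtBCQ.PbSys
import Groth.Agent.EtBCQ.Chase
import Groth.Agent.EtAcycX.Descend
import Mathlib

/-! Base change on quasi-finite models gives base change along a field algebraic over a strict localisation. -/

set_option autoImplicit false
set_option backward.isDefEq.respectTransparency false
set_option backward.isDefEq.respectTransparency.types false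
set_option maxHeartbeats 1000000
set_option linter.style.haveILetI false
set_option linter.overlappingInstances false
set_option linter.unusedSectionVars false
set_option linter.auxLemma false

universe u

open CategoryTheory CategoryTheory.Limits CategoryTheory.Abelian AlgebraicGeometry Opposite

noncomputable section

namespace Groth.Agent.EtOpenBC

open Groth.Agent.EtBCQ (pbSys pbFst pbSnd pbCone pbCone_fst pbCone_snd nonempty_isLimit_pbCone pbIsPullback
  isAffineHom_pbSys_map)

/-- base change on all quasi-compact open immersions after quasi-finite base change -/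
def BCOpen {X Y : Scheme.{u}} (g : X ⟶ Y) (L : Set ℕ) (n : ℕ) : Prop :=
  ∀ (Y' : Scheme.{u}) (i : Y' ⟶ Y) [LocallyQuasiFinite i] [LocallyOfFiniteType i] (Y'' : Scheme.{u})
    (i' : Y'' ⟶ Y') [IsOpenImmersion i'] [QuasiCompact i']
    [PreservesFiniteLimits (EtCoh.pull (pullback.snd (pullback.snd g i) i'))] (F : EtCoh.Ab Y''),
    EtAcyc.IsLTorsion L F → ∀ q : ℕ, q ≤ n →
      IsIso (EtBC.bcQ i' (pullback.snd g i) (pullback.fst (pullback.snd g i) i')
        (pullback.snd (pullback.snd g i) i') pullback.condition.symm q F)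

section Models

variable {R RY Ω : Type u} [CommRing R] [CommRing RY] [Field Ω] [Algebra R RY] [Algebra RY Ω] [Algebra R Ω]
  [IsScalarTower R RY Ω]

/-- the models as subrings -/
abbrev stgD (a : Stg R RY Ω) : Subring Ω := a.D.toSubring

/-- the localised models as subrings -/
abbrev stgT (a : Stg R RY Ω) : Subring Ω := a.T.toSubring

theorem monotone_stgD : Monotone (stgD (R := R) (RY := RY) (Ω := Ω)) := fun _ _ h => h.1

theorem monotone_stgT : Monotone (stgT (R := R) (RY := RY) (Ω := Ω)) := fun _ _ h => h.2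

/-- the open immersions between the systems -/
def stgNat : subSpec (stgT (R := R) (RY := RY) (Ω := Ω)) monotone_stgT ⟶ subSpec stgD monotone_stgD where
  app a := Spec.map (CommRingCat.ofHom (Subring.inclusion (show stgD a.unop ≤ stgT a.unop from a.unop.le_T)))
  naturality a b m := (Spec.map_comp _ _).symm.trans ((congrArg Spec.map (CommRingCat.hom_ext (RingHom.ext fun x =>
    Subtype.ext rfl))).trans (Spec.map_comp _ _))

theorem isOpenImmersion_stgNat (a : (Stg R RY Ω)ᵒᵖ) : IsOpenImmersion (stgNat.app a) := by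
  let A := a.unop
  let i : stgD A →+* stgT A := Subring.inclusion A.le_T
  letI : Algebra (stgD A) (stgT A) := i.toAlgebra
  let b : stgD A := ⟨A.b, A.mem⟩
  haveI : IsLocalization.Away b (stgT A) := by
    have hu : IsUnit (algebraMap (stgD A) (stgT A) b) :=
      IsUnit.of_mul_eq_one (⟨A.b⁻¹, 1, by rw [pow_one, mul_inv_cancel₀ A.ne]; exact one_mem _⟩ : stgT A)
        (Subtype.ext (mul_inv_cancel₀ A.ne))
    refine ⟨?_, ?_, ?_⟩
    · rintro ⟨_, k, rfl⟩
      simpa using hu.pow k
    · rintro ⟨z, k, hk⟩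
      exact ⟨⟨⟨_, hk⟩, ⟨b ^ k, k, rfl⟩⟩, Subtype.ext (mul_comm _ _)⟩
    · intro x y h
      have hxy : x = y := Subtype.ext (congrArg (fun z : stgT A => (z : Ω)) h :)
      exact ⟨1, by rw [hxy]⟩
  exact IsOpenImmersion.of_isLocalization (S := stgT A) b

/-- the morphisms of the models to the base -/
def stgBase {Y : Scheme.{u}} (cR : Spec (CommRingCat.of R) ⟶ Y) :
    subSpec (stgD (R := R) (RY := RY) (Ω := Ω)) monotone_stgD ⟶ (Functor.const _).obj Y where
  app a := Spec.map (CommRingCat.ofHom (algebraMap R a.unop.D)) ≫ cR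
  naturality a b m := by
    refine Eq.trans ?_ (Category.comp_id _).symm
    refine (Category.assoc _ _ _).symm.trans (congrArg (· ≫ cR) ?_)
    exact (Spec.map_comp _ _).symm.trans (congrArg Spec.map (CommRingCat.hom_ext (RingHom.ext fun x => rfl)))

theorem lqf_stgBase {Y : Scheme.{u}} (cR : Spec (CommRingCat.of R) ⟶ Y) [LocallyQuasiFinite cR]
    [LocallyOfFiniteType cR] (a : (Stg R RY Ω)ᵒᵖ) :
    LocallyQuasiFinite ((stgBase cR).app a) ∧ LocallyOfFiniteType ((stgBase cR).app a) := by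
  haveI := a.unop.ft
  haveI := a.unop.qf
  have h1 : LocallyQuasiFinite (Spec.map (CommRingCat.ofHom (algebraMap R a.unop.D))) :=
    (HasRingHomProperty.Spec_iff (P := @LocallyQuasiFinite)).mpr (RingHom.quasiFinite_algebraMap.mpr inferInstance)
  have h2 : LocallyOfFiniteType (Spec.map (CommRingCat.ofHom (algebraMap R a.unop.D))) :=
    (HasRingHomProperty.Spec_iff (P := @LocallyOfFiniteType)).mpr (RingHom.finiteType_algebraMap.mpr inferInstance)
  exact ⟨inferInstanceAs (LocallyQuasiFinite (_ ≫ cR)), inferInstanceAs (LocallyOfFiniteType (_ ≫ cR))⟩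

/-- base change in the limit -/
theorem isIso_bcQ_models {X Y : Scheme.{u}} (g : X ⟶ Y) {L : Set ℕ} {n : ℕ} (H : BCOpen g L n)
    (cR : Spec (CommRingCat.of R) ⟶ Y) [LocallyQuasiFinite cR] [LocallyOfFiniteType cR] (hR : IsQFUnion R RY)
    (halg : ∀ x : Ω, ∃ b : RY, algebraMap RY Ω b ≠ 0 ∧ IsIntegral RY (algebraMap RY Ω b * x))
    (sC : Spec (CommRingCat.of (integralClosure RY Ω)) ⟶ Y)
    (hsC : Spec.map (CommRingCat.ofHom (algebraMap R (integralClosure RY Ω))) ≫ cR = sC)
    (A : EtCoh.Ab Y) (hA : EtAcyc.IsLTorsion L A) (q : ℕ) (hq : q ≤ n)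
    (g₀ : Spec (CommRingCat.of Ω) ⟶ Spec (CommRingCat.of (integralClosure RY Ω)))
    (hg₀ : g₀ = Spec.map (CommRingCat.ofHom (integralClosure RY Ω).val.toRingHom))
    [PreservesFiniteLimits (EtCoh.pull (pullback.snd (pullback.snd g sC) g₀))] :
    IsIso (EtBC.bcQ g₀ (pullback.snd g sC) (pullback.fst (pullback.snd g sC) g₀)
      (pullback.snd (pullback.snd g sC) g₀) pullback.condition.symm q ((EtCoh.pull (g₀ ≫ sC)).obj A)) := by
  subst hg₀
  let C := integralClosure RY Ω
  let jC : C →+* Ω := C.val.toRingHom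
  have hjC : Function.Injective jC := Subtype.val_injective
  have hleD : ∀ a : Stg R RY Ω, stgD a ≤ jC.range := fun a x hx => ⟨⟨x, a.le hx⟩, rfl⟩
  have hleT : ∀ a : Stg R RY Ω, stgT a ≤ (RingHom.id Ω).range := fun a x _ => ⟨x, rfl⟩
  let cS := subCone stgD monotone_stgD jC hleD hjC
  let cT := subCone stgT monotone_stgT (RingHom.id Ω) hleT Function.injective_id
  obtain ⟨hcS⟩ := nonempty_isLimit_subCone stgD monotone_stgD jC hleD hjC fun c => exists_stg_isIntegral hR c.2
  obtain ⟨hcT⟩ := nonempty_isLimit_subCone stgT monotone_stgT (RingHom.id Ω) hleT Function.injective_id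
    fun x => exists_stg_cover hR halg x
  let gN := stgNat (R := R) (RY := RY) (Ω := Ω)
  let β := stgBase (RY := RY) (Ω := Ω) cR
  let α : (Functor.const (Stg R RY Ω)ᵒᵖ).obj X ⟶ (Functor.const (Stg R RY Ω)ᵒᵖ).obj Y := (Functor.const _).map g
  haveI : IsFiltered (Stg R RY Ω) := inferInstance
  haveI : IsConnected (Stg R RY Ω) := IsFiltered.isConnected _
  let fN := pbSnd α β
  let g₀ := Spec.map (CommRingCat.ofHom jC)
  have hg₀ : ∀ a, g₀ ≫ cS.π.app a = cT.π.app a ≫ gN.app a := fun a => by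
    refine (Spec.map_comp _ _).symm.trans ((congrArg Spec.map (CommRingCat.hom_ext (RingHom.ext fun x => ?_))).trans
      (Spec.map_comp _ _))
    exact (j_subIncl stgD jC hleD hjC a.unop x).trans (j_subIncl stgT (RingHom.id Ω) hleT Function.injective_id a.unop
      (Subring.inclusion (show stgD a.unop ≤ stgT a.unop from a.unop.le_T) x)).symm
  have hb : ∀ a, sC ≫ (constCone (Stg R RY Ω)ᵒᵖ Y).π.app a = cS.π.app a ≫ β.app a := fun a => by
    refine (Category.comp_id _).trans (hsC.symm.trans ?_)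
    refine Eq.trans ?_ (Category.assoc _ _ _)
    refine congrArg (· ≫ cR) (Eq.trans ?_ (Spec.map_comp _ _))
    exact congrArg Spec.map (CommRingCat.hom_ext (RingHom.ext fun x => hjC
      (j_subIncl stgD jC hleD hjC a.unop (algebraMap R a.unop.D x)).symm))
  let f₀ := pullback.snd g sC
  let cX := pbCone α β (cT := constCone _ X) (cS := constCone _ Y) (cB := cS) g sC
    (fun a => (Category.comp_id g).trans (Category.id_comp g).symm) hb (pullback.fst g sC) f₀ pullback.condition
  obtain ⟨hcX⟩ := nonempty_isLimit_pbCone α β (cT := constCone _ X) (cS := constCone _ Y) (cB := cS) g sC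
    (fun a => (Category.comp_id g).trans (Category.id_comp g).symm) hb (pullback.fst g sC) f₀ (isLimitConstCone _ X)
    (isLimitConstCone _ Y) hcS (IsPullback.of_hasPullback g sC)
  have hf : ∀ a, f₀ ≫ cS.π.app a = cX.π.app a ≫ fN.app a := fun a => (pbCone_snd α β _ _ _ _ _ _ _ a).symm
  let cY := pbCone fN gN (cT := cX) (cS := cS) (cB := cT) f₀ g₀ hf hg₀ (pullback.fst f₀ g₀) (pullback.snd f₀ g₀)
    pullback.condition
  obtain ⟨hcY⟩ := nonempty_isLimit_pbCone fN gN (cT := cX) (cS := cS) (cB := cT) f₀ g₀ hf hg₀ (pullback.fst f₀ g₀)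
    (pullback.snd f₀ g₀) hcX hcS hcT (IsPullback.of_hasPullback f₀ g₀)
  haveI hSa : ∀ {a b} (m : a ⟶ b), IsAffineHom ((subSpec (stgD (R := R) (RY := RY) (Ω := Ω)) monotone_stgD).map m) :=
    fun m => isAffineHom_subSpec_map _ _ m
  haveI hTa : ∀ {a b} (m : a ⟶ b), IsAffineHom ((subSpec (stgT (R := R) (RY := RY) (Ω := Ω)) monotone_stgT).map m) :=
    fun m => isAffineHom_subSpec_map _ _ m
  haveI hXc : ∀ {a b} (m : a ⟶ b), IsAffineHom (((Functor.const (Stg R RY Ω)ᵒᵖ).obj X).map m) :=
    fun m => inferInstanceAs (IsAffineHom (𝟙 X))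
  haveI hYc : ∀ {a b} (m : a ⟶ b), IsSeparated (((Functor.const (Stg R RY Ω)ᵒᵖ).obj Y).map m) :=
    fun m => inferInstanceAs (IsSeparated (𝟙 Y))
  haveI hXa : ∀ {a b} (m : a ⟶ b), IsAffineHom ((pbSys α β).map m) := fun m => isAffineHom_pbSys_map α β m
  haveI : ∀ a, QuasiCompact (gN.app a) := fun a => inferInstanceAs (QuasiCompact (Spec.map _))
  haveI : ∀ a, QuasiSeparated (gN.app a) := fun a => inferInstanceAs (QuasiSeparated (Spec.map _))
  haveI : ∀ a, IsOpenImmersion (gN.app a) := fun a => isOpenImmersion_stgNat a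
  haveI : ∀ a, PreservesFiniteLimits (EtCoh.pull ((pbSnd fN gN).app a)) := fun a =>
    EtPullExact.pull_preservesFiniteLimits _
  let p : ∀ a, (subSpec (stgT (R := R) (RY := RY) (Ω := Ω)) monotone_stgT).obj a ⟶ Y := fun a => gN.app a ≫ β.app a
  have hp : ∀ {a b} (m : a ⟶ b), (subSpec stgT monotone_stgT).map m ≫ p b = p a := fun {a b} m => by
    refine (Category.assoc _ _ _).symm.trans ((congrArg (· ≫ β.app b) (gN.naturality m)).trans ?_)
    refine (Category.assoc _ _ _).trans (congrArg (gN.app a ≫ ·) ?_)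
    exact (β.naturality m).trans (Category.comp_id _)
  have hp₀ : ∀ a, cT.π.app a ≫ p a = g₀ ≫ sC := fun a => by
    refine (Category.assoc _ _ _).symm.trans ((congrArg (· ≫ β.app a) (hg₀ a).symm).trans ?_)
    refine (Category.assoc _ _ _).trans (congrArg (g₀ ≫ ·) ?_)
    exact (hb a).symm.trans (Category.comp_id _)
  have key := Groth.Agent.S6701.result (pbSys α β) (subSpec stgD monotone_stgD) (subSpec stgT monotone_stgT)
    (pbSys fN gN) fN gN (pbFst fN gN) (pbSnd fN gN) (fun a => (pbIsPullback fN gN a).flip)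
    (fun a b m => ⟨hXa m, hSa m, hTa m, isAffineHom_pbSys_map fN gN m⟩) cX hcX cS hcS cT hcT cY hcY f₀ g₀
    (pullback.fst f₀ g₀) (pullback.snd f₀ g₀) hf hg₀
    (fun a => (pbCone_fst fN gN _ _ _ _ _ _ _ a).symm) (fun a => (pbCone_snd fN gN _ _ _ _ _ _ _ a).symm)
    (IsPullback.of_hasPullback f₀ g₀).flip (cF _ p A) (cφ _ p hp A) (fun _ _ _ h h' => cφ_cocycle _ p hp A h h')
    (cG _ cT (g₀ ≫ sC) A) (cψ _ cT p (g₀ ≫ sC) hp₀ A) (fun _ _ h => cψ_compat _ cT p hp (g₀ ≫ sC) hp₀ A h) q
    (fun i => by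
      haveI := (lqf_stgBase (RY := RY) (Ω := Ω) cR (op i)).1
      haveI := (lqf_stgBase (RY := RY) (Ω := Ω) cR (op i)).2
      exact H _ (β.app (op i)) _ (gN.app (op i)) _ (EtAcycX.isLTorsion_pull _ hA) q hq)
  haveI := key
  let Φ := cColimIso _ cT (g₀ ≫ sC) A
  have hn := Groth.Agent.EtBCQ.bcQ_natural (g := g₀) (f := f₀) (h := pullback.fst f₀ g₀) (e := pullback.snd f₀ g₀)
    pullback.condition.symm (IsPullback.of_hasPullback f₀ g₀).flip Φ.hom q
  have h2 : IsIso (EtBC.bcQ g₀ f₀ (pullback.fst f₀ g₀) (pullback.snd f₀ g₀) pullback.condition.symm q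
      (colimit (cG _ cT (g₀ ≫ sC) A)) ≫ (EtCoh.Rpush (pullback.fst f₀ g₀) q).map
      ((EtCoh.pull (pullback.snd f₀ g₀)).map Φ.hom)) := inferInstance
  exact @IsIso.of_isIso_comp_left _ _ _ _ _ ((EtCoh.pull f₀).map ((EtCoh.Rpush g₀ q).map Φ.hom)) _ inferInstance
    ((congrArg (fun m => IsIso m) hn).mpr h2)

end Models

end Groth.Agent.EtOpenBC
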